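import Mathlib

/-!
# Anisotropic systems of quadratic maps in characteristic two

If a quadratic map from an elementary abelian 2-group of order `2^N` to one of order `2^n` vanishes only at zero,
then `N ≤ 2n` (Chevalley-Warning).
-/

set_option autoImplicit false

namespace Cfsg.Agent.H48.Suzuki

open Finset MvPolynomial

/-- A quadratic map on `(ZMod 2)^σ` in coordinates. -/
theorem quadratic_eq_sum {σ W : Type*} [Fintype σ] [DecidableEq σ] [LinearOrder σ] [AddCommGroup W]
    [Module (ZMod 2) W] (f : (σ → ZMod 2) → W) (B : (σ → ZMod 2) → (σ → ZMod 2) → W) (f0 : f 0 = 0)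
    (hB : ∀ u v w, B (u + v) w = B u w + B v w) (hf : ∀ u v, f (u + v) = f u + f v + B u v)
    (x : σ → ZMod 2) :
    f x = (∑ i, x i • f (Pi.single i 1)) +
      ∑ i, ∑ j with i < j, (x i * x j) • B (Pi.single j 1) (Pi.single i 1) := by
  have hB0 : ∀ w, B 0 w = 0 := fun w => by simpa using hB 0 0 w
  have hBr : ∀ u v w, B u (v + w) = B u v + B u w := by
    intro u v w
    have e1 : ∀ a b, B a b = B b a := by
      intro a b
      have h1 := hf a b
      have h2 := hf b a
      rw [add_comm b a, h1, add_comm (f b) (f a)] at h2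
      exact add_left_cancel h2
    rw [e1 u, e1 u v, e1 u w, hB]
  have hB0' : ∀ u, B u 0 = 0 := fun u => by simpa using hBr u 0 0
  have main : ∀ S : Finset σ, f (∑ i ∈ S, x i • Pi.single i (1 : ZMod 2)) =
      (∑ i ∈ S, x i • f (Pi.single i 1)) +
        ∑ i ∈ S, ∑ j ∈ S with i < j, (x i * x j) • B (Pi.single j 1) (Pi.single i 1) := by
    intro S
    induction S using Finset.induction_on_min with
    | empty => simp [f0]
    | insert a S ha ih =>
      have hnot : a ∉ S := fun h => lt_irrefl a (ha a h)
      have hcase : ∀ c : ZMod 2, c = 0 ∨ c = 1 := by decide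
      have hscal : ∀ (c : ZMod 2) (v : σ → ZMod 2), f (c • v) = c • f v := by
        intro c v; rcases hcase c with rfl | rfl <;> simp [f0]
      have hBscal : ∀ (c : ZMod 2) u v, B (c • u) v = c • B u v := by
        intro c u v; rcases hcase c with rfl | rfl <;> simp [hB0]
      have hBscal' : ∀ (c : ZMod 2) u v, B u (c • v) = c • B u v := by
        intro c u v; rcases hcase c with rfl | rfl <;> simp [hB0']
      have hBsum : B (∑ i ∈ S, x i • Pi.single i (1 : ZMod 2)) (x a • Pi.single a 1) =
          ∑ j ∈ S, (x a * x j) • B (Pi.single j 1) (Pi.single a 1) := by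
        clear ih
        clear ha hnot
        induction S using Finset.induction_on with
        | empty => simp [hB0]
        | insert b S hb ih2 =>
          rw [Finset.sum_insert hb, hB, Finset.sum_insert hb, ih2, hBscal, hBscal', smul_smul, mul_comm]
      rw [Finset.sum_insert hnot, Finset.sum_insert hnot, Finset.sum_insert hnot, add_comm, hf, ih, hscal, hBsum]
      have e1 : (insert a S).filter (fun j => a < j) = S := by
        ext j
        simp only [Finset.mem_filter, Finset.mem_insert]
        constructor
        · rintro ⟨rfl | h, hlt⟩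
          · exact absurd hlt (lt_irrefl _)
          · exact h
        · exact fun h => ⟨Or.inr h, ha j h⟩
      have e2 : ∀ i ∈ S, (insert a S).filter (fun j => i < j) = S.filter (fun j => i < j) := by
        intro i hi
        rw [Finset.filter_insert, if_neg (not_lt.2 (ha i hi).le)]
      have e3 : ∑ i ∈ S, ∑ j ∈ insert a S with i < j, (x i * x j) • B (Pi.single j 1) (Pi.single i 1) =
          ∑ i ∈ S, ∑ j ∈ S with i < j, (x i * x j) • B (Pi.single j 1) (Pi.single i 1) :=
        Finset.sum_congr rfl fun i hi => by rw [e2 i hi]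
      rw [e1, e3]
      abel
  have := main Finset.univ
  rwa [show (∑ i, x i • Pi.single i (1 : ZMod 2)) = x by
    funext j; simp [Finset.sum_apply, Pi.single_apply]] at this

/-- An anisotropic quadratic map needs `N ≤ 2n`. -/
theorem anisotropic_bound {V W : Type*} [AddCommGroup V] [Finite V] [AddCommGroup W] [Finite W]
    (hV : ∀ v : V, v + v = 0) (hW : ∀ w : W, w + w = 0) (f : V → W) (B : V → V → W)
    (hB : ∀ u v w, B (u + v) w = B u w + B v w) (hf : ∀ u v, f (u + v) = f u + f v + B u v)
    (hani : ∀ v, f v = 0 ↔ v = 0) : Nat.card V ≤ Nat.card W ^ 2 := by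
  classical
  let _ : Module (ZMod 2) V := AddCommGroup.zmodModule fun v => by rw [two_smul]; exact hV v
  let _ : Module (ZMod 2) W := AddCommGroup.zmodModule fun v => by rw [two_smul]; exact hW v
  let bV := Module.finBasis (ZMod 2) V
  let bW := Module.finBasis (ZMod 2) W
  set N := Module.finrank (ZMod 2) V with hN
  set n := Module.finrank (ZMod 2) W with hn
  have cV : Nat.card V = 2 ^ N := by
    rw [Nat.card_congr bV.equivFun.toEquiv]; simp
  have cW : Nat.card W = 2 ^ n := by
    rw [Nat.card_congr bW.equivFun.toEquiv]; simp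
  rw [cV, cW, ← pow_mul]
  refine Nat.pow_le_pow_right (by norm_num) ?_
  by_contra hlt
  let e := bV.equivFun.symm
  let g : Fin n → (Fin N → ZMod 2) → ZMod 2 := fun k x => bW.equivFun (f (e x)) k
  let P : Fin n → MvPolynomial (Fin N) (ZMod 2) := fun k =>
    (∑ i, C (g k (Pi.single i 1)) * X i) +
      ∑ i, ∑ j with i < j, C (bW.equivFun (B (e (Pi.single j 1)) (e (Pi.single i 1))) k) * (X i * X j)
  have hP : ∀ k x, eval x (P k) = g k x := by
    intro k x
    have := quadratic_eq_sum (fun y => f (e y)) (fun u v => B (e u) (e v))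
      (by rw [map_zero]; exact (hani 0).2 rfl) (fun u v w => by rw [map_add, hB])
      (fun u v => by rw [map_add, hf]) x
    simp only [g, this, P, map_add, map_sum, map_mul, eval_C, eval_X, map_smul, Pi.add_apply,
      Finset.sum_apply, Pi.smul_apply, smul_eq_mul]
    congr 1
    · exact Finset.sum_congr rfl fun i _ => mul_comm _ _
    · exact Finset.sum_congr rfl fun i _ => Finset.sum_congr rfl fun j _ => mul_comm _ _
  have hdeg : ∀ k, (P k).totalDegree ≤ 2 := by
    intro k
    refine (totalDegree_add _ _).trans (max_le ?_ ?_)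
    · refine (totalDegree_finsetSum _ _).trans (Finset.sup_le fun i _ => ?_)
      refine (totalDegree_mul _ _).trans ?_
      simp [totalDegree_C, totalDegree_X]
    · refine (totalDegree_finsetSum _ _).trans (Finset.sup_le fun i _ => ?_)
      refine (totalDegree_finsetSum _ _).trans (Finset.sup_le fun j _ => ?_)
      refine (totalDegree_mul _ _).trans ?_
      rw [totalDegree_C, zero_add]
      refine (totalDegree_mul _ _).trans ?_
      simp [totalDegree_X]
  have hdvd := char_dvd_card_solutions_of_fintype_sum_lt 2 (f := P) (by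
    calc ∑ k, (P k).totalDegree ≤ ∑ _k : Fin n, 2 := Finset.sum_le_sum fun k _ => hdeg k
      _ < Fintype.card (Fin N) := by simp; omega)
  have hone : Fintype.card {x : Fin N → ZMod 2 // ∀ k, eval x (P k) = 0} = 1 := by
    rw [Fintype.card_eq_one_iff]
    refine ⟨⟨0, fun k => by rw [hP]; simp [g, (hani 0).2 rfl]⟩, fun ⟨x, hx⟩ => Subtype.ext ?_⟩
    have h0 : f (e x) = 0 := bW.equivFun.injective (funext fun k => by
      rw [map_zero, Pi.zero_apply, ← hx k, hP k x])
    have := (hani _).1 h0
    exact e.injective (this.trans (map_zero e).symm)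
  have h21 : 2 ∣ 1 := by
    convert hdvd using 1
    convert hone.symm using 2
  exact absurd (Nat.le_of_dvd one_pos h21) (by norm_num)

end Cfsg.Agent.H48.Suzuki
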