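import Cfsg.Agent.H48.Suzuki.Center

/-!
# Suzuki 2-groups: no abelian normal invariant subgroup has exponent eight; the centre is elementary
-/

set_option autoImplicit false

namespace Cfsg.Agent.H48.Suzuki

open Classical in
/-- A commuting family of idempotent endomorphisms of a finite field, permuted compatibly by the
multiplicative group, consists of `0` and `1` only. -/
theorem idempotent_dichotomy {F ι : Type*} [Field F] [Finite F] (N : ι → AddMonoid.End F)
    (hidem : ∀ i, N i * N i = N i) (hcomm : ∀ i j, N i * N j = N j * N i)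
    (hconj : ∀ x : F, x ≠ 0 → ∀ i, ∃ j, ∀ u, N j (x * u) = x * N i u) :
    ∀ i, N i = 0 ∨ N i = 1 := by
  set M := Submonoid.closure (Set.range N) with hM
  have hMcomm : ∀ E ∈ M, ∀ E' ∈ M, E * E' = E' * E := by
    intro E hE E' hE'
    induction hE, hE' using Submonoid.closure_induction₂ with
    | mem x y hx hy => obtain ⟨i, rfl⟩ := hx; obtain ⟨j, rfl⟩ := hy; exact hcomm i j
    | one_left x _ => simp
    | one_right x _ => simp
    | mul_left x y z _ _ _ h1 h2 => rw [mul_assoc, h2, ← mul_assoc, h1, mul_assoc]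
    | mul_right x y z _ _ _ h1 h2 => rw [← mul_assoc, h1, mul_assoc, h2, mul_assoc]
  have hMidem : ∀ E ∈ M, E * E = E := by
    intro E hE
    induction hE using Submonoid.closure_induction with
    | mem x hx => obtain ⟨i, rfl⟩ := hx; exact hidem i
    | one => simp
    | mul x y hx hy h1 h2 =>
      calc x * y * (x * y) = x * (y * x) * y := by simp only [mul_assoc]
        _ = (x * x) * (y * y) := by rw [hMcomm y hy x hx]; simp only [mul_assoc]
        _ = x * y := by rw [h1, h2]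
  have hMconj : ∀ E ∈ M, ∀ x : F, x ≠ 0 → ∃ E' ∈ M, ∀ u, E' (x * u) = x * E u := by
    intro E hE
    induction hE using Submonoid.closure_induction with
    | mem e he =>
      obtain ⟨i, rfl⟩ := he
      intro x hx
      obtain ⟨j, hj⟩ := hconj x hx i
      exact ⟨N j, Submonoid.subset_closure ⟨j, rfl⟩, hj⟩
    | one => exact fun x _ => ⟨1, one_mem M, fun u => rfl⟩
    | mul e e' _ _ h1 h2 =>
      intro x hx
      obtain ⟨f, hf, hf'⟩ := h1 x hx
      obtain ⟨g, hg, hg'⟩ := h2 x hx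
      exact ⟨f * g, mul_mem hf hg, fun u => by
        change f (g (x * u)) = x * e (e' u)
        rw [hg', hf']⟩
  let r : AddMonoid.End F → ℕ := fun E => Nat.card (Set.range (E : F → F))
  obtain ⟨E₀, ⟨hE₀M, hE₀⟩, hmin⟩ := exists_minimalFor_of_wellFoundedLT
    (fun E => E ∈ M ∧ E ≠ 0) r
    ⟨1, one_mem M, fun h => one_ne_zero (DFunLike.congr_fun h (1 : F))⟩
  -- minimality for every element with the same number of values
  have hmin' : ∀ E ∈ M, E ≠ 0 → r E ≤ r E₀ → ∀ E' ∈ M, E * E' = 0 ∨ E * E' = E := by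
    intro E hE hE0 hr E' hE'
    rcases eq_or_ne (E * E') 0 with h | h
    · exact Or.inl h
    refine Or.inr ?_
    have hsub : Set.range (E * E' : AddMonoid.End F) ⊆ Set.range (E : F → F) := by
      rintro _ ⟨u, rfl⟩
      exact ⟨E' u, rfl⟩
    have hle : r (E * E') ≤ r E := Nat.card_mono (Set.toFinite _) hsub
    have hge : r E ≤ r (E * E') :=
      hr.trans (hmin ⟨mul_mem hE hE', h⟩ (hle.trans hr))
    have heq : Set.range (E * E' : AddMonoid.End F) = Set.range (E : F → F) := by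
      refine Set.eq_of_subset_of_ncard_le hsub ?_ (Set.toFinite _)
      rw [← Nat.card_coe_set_eq, ← Nat.card_coe_set_eq]
      exact hge
    refine DFunLike.ext _ _ fun v => ?_
    have hv : E v ∈ Set.range (E * E' : AddMonoid.End F) := heq ▸ ⟨v, rfl⟩
    obtain ⟨w, hw⟩ := hv
    calc (E * E') v = (E' * E) v := by rw [hMcomm E hE E' hE']
      _ = E' (E v) := rfl
      _ = E' ((E * E') w) := by rw [hw]
      _ = E' ((E' * E) w) := by rw [hMcomm E hE E' hE']
      _ = (E' * E') (E w) := rfl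
      _ = E' (E w) := by rw [hMidem E' hE']
      _ = (E' * E) w := rfl
      _ = (E * E') w := by rw [hMcomm E hE E' hE']
      _ = E v := hw
  obtain ⟨w, hw⟩ : ∃ w, E₀ w ≠ 0 := by
    by_contra h
    push Not at h
    exact hE₀ (DFunLike.ext _ _ h)
  set u := E₀ w with hu
  have hfu : E₀ u = u := by
    change (E₀ * E₀) w = _
    rw [hMidem E₀ hE₀M]
  -- conjugates of `E₀` containing a given vector
  have hfix : ∀ v : F, v ≠ 0 → ∃ E ∈ M, E ≠ 0 ∧ r E ≤ r E₀ ∧ E v = v := by
    intro v hv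
    have hx : v / u ≠ 0 := div_ne_zero hv hw
    obtain ⟨E, hE, hEx⟩ := hMconj E₀ hE₀M _ hx
    have hEv : E v = v := by
      have := hEx u
      rwa [hfu, div_mul_cancel₀ _ hw] at this
    refine ⟨E, hE, fun h => hv (by rw [← hEv, h]; rfl), ?_, hEv⟩
    have hsub : Set.range (E : F → F) ⊆ (fun y => v / u * y) '' Set.range (E₀ : F → F) := by
      rintro _ ⟨y, rfl⟩
      exact ⟨E₀ (y / (v / u)), ⟨_, rfl⟩, by simp only; rw [← hEx, mul_div_cancel₀ _ hx]⟩
    exact (Nat.card_mono (Set.toFinite _) hsub).trans (Nat.card_image_le (Set.toFinite _))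
  have hone : ∀ v, E₀ v = v := by
    intro v
    rcases eq_or_ne v 0 with rfl | hv
    · exact map_zero E₀
    obtain ⟨E, hE, hE0, hEr, hEv⟩ := hfix v hv
    rcases hmin' E₀ hE₀M hE₀ le_rfl E hE with h | h
    · exfalso
      have h0 : E₀ v = 0 := by
        calc E₀ v = (E₀ * E) v := by rw [AddMonoid.End.coe_mul, Function.comp_apply, hEv]
          _ = 0 := by rw [h]; rfl
      have hne : u + v ≠ 0 := by
        intro h1
        have := congrArg E₀ h1
        rw [map_add, hfu, h0, add_zero, map_zero] at this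
        exact hw this
      obtain ⟨E'', hE'', hE''0, hE''r, hE''v⟩ := hfix _ hne
      rcases hmin' E₀ hE₀M hE₀ le_rfl E'' hE'' with h' | h'
      · apply hw
        calc u = E₀ (u + v) := by rw [map_add, hfu, h0, add_zero]
          _ = (E₀ * E'') (u + v) := by rw [AddMonoid.End.coe_mul, Function.comp_apply, hE''v]
          _ = 0 := by rw [h']; rfl
      · rcases hmin' E'' hE'' hE''0 hE''r E₀ hE₀M with h'' | h''
        · exact hE₀ (by rw [← h', hMcomm E₀ hE₀M E'' hE'', h''])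
        · have e : E₀ = E'' := by rw [← h', hMcomm E₀ hE₀M E'' hE'', h'']
          rw [← e, map_add, hfu, h0, add_zero] at hE''v
          exact hv (add_eq_left.1 hE''v.symm)
    · rcases hmin' E hE hE0 hEr E₀ hE₀M with h' | h'
      · exact absurd (by rw [← h, hMcomm E₀ hE₀M E hE, h']) hE₀
      · have e : E₀ = E := by rw [← h, hMcomm E₀ hE₀M E hE, h']
        rw [e, hEv]
  intro i
  rcases eq_or_ne (N i) 0 with h | h
  · exact Or.inl h
  refine Or.inr ?_
  rcases hmin' E₀ hE₀M hE₀ le_rfl (N i) (Submonoid.subset_closure ⟨i, rfl⟩) with h' | h'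
  · apply absurd ?_ h
    refine DFunLike.ext _ _ fun v => ?_
    rw [← hone (N i v)]
    exact DFunLike.congr_fun h' v
  · refine DFunLike.ext _ _ fun v => ?_
    calc N i v = (E₀ * N i) v := (hone _).symm
      _ = E₀ v := by rw [h']
      _ = v := hone v

variable {P : Type*} [Group P] [Finite P] {K : Subgroup (MulAut P)} {A : Subgroup P}
variable (hA : IsMaxAbelian K A) (hS : Setup K)
variable {F : Type} [Field F] [Fintype F] [CharP F 2] (C : Coord hS F)
variable {m : ℕ} (hm : ∀ a ∈ A, a ^ 2 ^ (m + 1) = 1) (hm' : ∃ a ∈ A, a ^ 2 ^ m ≠ 1)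
include hA hS C hm hm'

/-- An abelian normal invariant subgroup of exponent at least eight is the whole group. -/
theorem eq_top_of_high (hm2 : 2 ≤ m) : A = ⊤ := by
  classical
  have hAn := hA.normal
  set T := layer A hA.normal with hT
  have hTA : A ≤ T := le_layer hA
  have dA : ∀ {a}, a ∈ A → ∀ y : P, y * a * y⁻¹ * a⁻¹ ∈ A := fun ha y => delta_mem hA ha y
  have th : ∀ {a}, a ∈ A → a ^ 2 ^ m ∈ omega hS := fun ha => theta_mem hA hS hm ha
  -- basic facts on powers
  have th_sq : ∀ {a}, a ∈ A → (a * a) ^ 2 ^ m = 1 := fun ha => theta_sq hA hS hm ha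
  have th_omega : ∀ {w}, w ∈ omega hS → w ^ 2 ^ m = 1 := by
    intro w hw
    rw [show m = (m - 1) + 1 by omega, pow_succ', pow_mul, sq, show w * w = 1 from hw, one_pow]
  have th_four : ∀ {w : P}, w * w * (w * w) = 1 → w ^ 2 ^ m = 1 := by
    intro w hw
    rw [show m = (m - 2) + 2 by omega, pow_add, mul_comm, pow_mul]
    rw [show w ^ 2 ^ 2 = 1 by rw [show (2 : ℕ) ^ 2 = 2 + 2 by norm_num, pow_add, sq, hw], one_pow]
  have th_mul : ∀ {a b}, a ∈ A → b ∈ A → (a * b) ^ 2 ^ m = a ^ 2 ^ m * b ^ 2 ^ m :=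
    fun ha hb => mul_pow_A hA ha hb _
  have chi_th_mul : ∀ {a b}, a ∈ A → b ∈ A →
      C.χ ((a * b) ^ 2 ^ m) = C.χ (a ^ 2 ^ m) + C.χ (b ^ 2 ^ m) := by
    intro a b ha hb
    rw [th_mul ha hb, C.map_mul _ _ (th ha) (th hb)]
  have sq_th : ∀ {a b}, a ∈ A → b ∈ A → a * a = b * b → C.χ (a ^ 2 ^ m) = C.χ (b ^ 2 ^ m) := by
    intro a b ha hb h
    have hw : a * b⁻¹ ∈ omega hS := by
      change a * b⁻¹ * (a * b⁻¹) = 1
      calc a * b⁻¹ * (a * b⁻¹) = a * (b⁻¹ * a) * b⁻¹ := by group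
        _ = a * a * (b * b)⁻¹ := by rw [hA.comm _ (inv_mem hb) a ha]; group
        _ = 1 := by rw [h, mul_inv_cancel]
    have := chi_th_mul (omega_le hA hS hw) hb
    rw [inv_mul_cancel_right, th_omega hw, C.map_one, zero_add] at this
    exact this
  -- the commutator map
  have d_mul : ∀ {a b}, a ∈ A → b ∈ A → ∀ y : P,
      y * (a * b) * y⁻¹ * (a * b)⁻¹ = (y * a * y⁻¹ * a⁻¹) * (y * b * y⁻¹ * b⁻¹) :=
    fun ha hb y => delta_mul hA ha hb y
  have d_pow : ∀ {a}, a ∈ A → ∀ (y : P) (i : ℕ),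
      y * a ^ i * y⁻¹ * (a ^ i)⁻¹ = (y * a * y⁻¹ * a⁻¹) ^ i := by
    intro a ha y i
    induction i with
    | zero => simp
    | succ i ih => rw [pow_succ, d_mul (pow_mem ha i) ha, ih, pow_succ]
  have d_sq : ∀ {a}, a ∈ A → ∀ y : P, y * (a * a) * y⁻¹ * (a * a)⁻¹ =
      (y * a * y⁻¹ * a⁻¹) * (y * a * y⁻¹ * a⁻¹) := fun ha y => d_mul ha ha y
  have d_th : ∀ {a}, a ∈ A → ∀ y : P, (y * a * y⁻¹ * a⁻¹) ^ 2 ^ m = 1 := by
    intro a ha y
    rw [← d_pow ha y, Subgroup.mem_center_iff.1 (omega_le_center hS (th ha)) y,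
      mul_inv_cancel_right, mul_inv_cancel]
  have d_root : ∀ {a}, a ∈ A → ∀ y : P, ∃ b ∈ A, y * a * y⁻¹ * a⁻¹ = b * b := fun ha y =>
    exists_sq hA hS hm hm' (by omega) (dA ha y) (d_th ha y)
  have d_twice : ∀ {a}, a ∈ A → ∀ {y : P}, y * y ∈ A →
      (y * (y * a * y⁻¹ * a⁻¹) * y⁻¹ * (y * a * y⁻¹ * a⁻¹)⁻¹) *
        ((y * a * y⁻¹ * a⁻¹) * (y * a * y⁻¹ * a⁻¹)) = 1 := by
    intro a ha y hy
    calc _ = (y * y) * a * (y * y)⁻¹ * a⁻¹ := by group
      _ = 1 := by rw [hA.comm _ hy a ha]; group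
  -- the map `N`
  have hroot : ∀ (y : P) (u : F), ∃ a b, a ∈ A ∧ b ∈ A ∧ C.χ (a ^ 2 ^ m) = u ∧
      y * a * y⁻¹ * a⁻¹ = b * b := by
    intro y u
    obtain ⟨a, ha, hau⟩ := chi_surj hA hS C hm hm' u
    obtain ⟨b, hb, hab⟩ := d_root ha y
    exact ⟨a, b, ha, hb, hau, hab⟩
  choose fa fb hfa hfb hfau hfab using hroot
  have spec : ∀ (y : P) {a b : P}, a ∈ A → b ∈ A → y * a * y⁻¹ * a⁻¹ = b * b →
      C.χ (b ^ 2 ^ m) = C.χ ((fb y (C.χ (a ^ 2 ^ m))) ^ 2 ^ m) := by
    intro y a b ha hb hab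
    set a' := fa y (C.χ (a ^ 2 ^ m))
    set b' := fb y (C.χ (a ^ 2 ^ m))
    have ha' : a' ∈ A := hfa _ _
    have hb' : b' ∈ A := hfb _ _
    have h0 : (a⁻¹ * a') ^ 2 ^ m = 1 := by
      have h1 := C.inj (th ha') (th ha) (hfau _ _)
      rw [th_mul (inv_mem ha) ha', h1, inv_pow, inv_mul_cancel]
    obtain ⟨w, hw, hww⟩ := exists_sq hA hS hm hm' (by omega) (mul_mem (inv_mem ha) ha') h0
    obtain ⟨v, hv, hvv⟩ := d_root hw y
    have e : b' * b' = (b * (v * v)) * (b * (v * v)) := by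
      rw [← hfab, show fa y (C.χ (a ^ 2 ^ m)) = a * (w * w) by rw [← hww, mul_inv_cancel_left],
        d_mul ha (mul_mem hw hw), d_sq hw, hab, hvv]
      have h2 := hA.comm b hb (v * v) (mul_mem hv hv)
      calc b * b * (v * v * (v * v)) = b * (b * (v * v)) * (v * v) := by group
        _ = b * (v * v * b) * (v * v) := by rw [h2]
        _ = _ := by group
    rw [sq_th hb' (mul_mem hb (mul_mem hv hv)) e, chi_th_mul hb (mul_mem hv hv), th_sq hv,
      C.map_one, add_zero]
  let N : T → AddMonoid.End F := fun y => AddMonoidHom.mk'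
    (fun u => C.χ ((fb y u) ^ 2 ^ m)) (fun u v => by
      have h := spec y (mul_mem (hfa y u) (hfa y v)) (mul_mem (hfb y u) (hfb y v)) (by
        rw [d_mul (hfa y u) (hfa y v), hfab, hfab]
        have h2 := hA.comm _ (hfb (y : P) u) _ (hfb y v)
        calc fb y u * fb y u * (fb y v * fb y v) = fb y u * (fb y u * fb y v) * fb y v := by group
          _ = fb y u * (fb y v * fb y u) * fb y v := by rw [h2]
          _ = _ := by group)
      rw [chi_th_mul (hfa y u) (hfa y v), hfau, hfau] at h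
      rw [← h, chi_th_mul (hfb y u) (hfb y v)])
  have Ndef : ∀ (y : T) {a b : P}, a ∈ A → b ∈ A → (y : P) * a * (y : P)⁻¹ * a⁻¹ = b * b →
      N y (C.χ (a ^ 2 ^ m)) = C.χ (b ^ 2 ^ m) := fun y _ _ ha hb hab => (spec y ha hb hab).symm
  have hidem : ∀ y : T, N y * N y = N y := by
    intro y
    refine DFunLike.ext _ _ fun u => ?_
    obtain ⟨a, ha, rfl⟩ := chi_surj hA hS C hm hm' u
    obtain ⟨b, hb, hab⟩ := d_root ha (y : P)
    obtain ⟨c, hc, hbc⟩ := d_root hb (y : P)
    change N y (N y _) = _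
    rw [Ndef y ha hb hab, Ndef y hb hc hbc]
    have h := d_twice ha y.2.1
    rw [hab, d_sq hb, hbc] at h
    have h2 : c * b * (c * b) * (c * b * (c * b)) = 1 := by
      have hcb := hA.comm c hc b hb
      have e : c * b * (c * b) = c * c * (b * b) := by
        calc c * b * (c * b) = c * (b * c) * b := by group
          _ = _ := by rw [← hcb]; group
      rw [e]
      have hcb2 := hA.comm (c * c) (mul_mem hc hc) (b * b) (mul_mem hb hb)
      calc c * c * (b * b) * (c * c * (b * b)) = c * c * ((b * b) * (c * c)) * (b * b) := by group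
        _ = _ := by rw [← hcb2]; group
        _ = 1 := h
    have h3 := chi_th_mul hc hb
    rw [th_four h2, C.map_one] at h3
    exact CharTwo.add_eq_zero.1 h3.symm
  have hNmul : ∀ y y' : T, N (y * y') = N y + N y' := by
    intro y y'
    refine DFunLike.ext _ _ fun u => ?_
    obtain ⟨a, ha, rfl⟩ := chi_surj hA hS C hm hm' u
    obtain ⟨b, hb, hab⟩ := d_root ha (y : P)
    obtain ⟨b', hb', hab'⟩ := d_root ha (y' : P)
    obtain ⟨v, hv, hbv⟩ := d_root hb' (y : P)
    have e : ((y * y' : T) : P) * a * ((y * y' : T) : P)⁻¹ * a⁻¹ =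
        (v * v * (b' * b)) * (v * v * (b' * b)) := by
      have h1 : (y : P) * ((y' : P) * a * (y' : P)⁻¹ * a⁻¹) * (y : P)⁻¹ *
          ((y' : P) * a * (y' : P)⁻¹ * a⁻¹)⁻¹ = (v * v) * (v * v) := by
        rw [hab', d_sq hb', hbv]
      have h2 := hA.comm (b' * b') (mul_mem hb' hb') (b * b) (mul_mem hb hb)
      have h3 := hA.comm (v * v) (mul_mem hv hv) (b' * b) (mul_mem hb' hb)
      calc ((y * y' : T) : P) * a * ((y * y' : T) : P)⁻¹ * a⁻¹
          = ((y : P) * ((y' : P) * a * (y' : P)⁻¹ * a⁻¹) * (y : P)⁻¹ *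
              ((y' : P) * a * (y' : P)⁻¹ * a⁻¹)⁻¹) * ((y' : P) * a * (y' : P)⁻¹ * a⁻¹) *
              ((y : P) * a * (y : P)⁻¹ * a⁻¹) := by push_cast; group
        _ = v * v * (v * v) * (b' * b') * (b * b) := by rw [h1, hab', hab]
        _ = v * v * (v * v) * ((b' * b) * (b' * b)) := by
            have h4 := hA.comm b' hb' b hb
            calc v * v * (v * v) * (b' * b') * (b * b)
                = v * v * (v * v) * (b' * (b' * b) * b) := by group
              _ = v * v * (v * v) * (b' * (b * b') * b) := by rw [h4]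
              _ = _ := by group
        _ = v * v * ((v * v) * (b' * b)) * (b' * b) := by group
        _ = v * v * ((b' * b) * (v * v)) * (b' * b) := by rw [h3]
        _ = _ := by group
    change N (y * y') _ = N y _ + N y' _
    rw [Ndef (y * y') ha (mul_mem (mul_mem hv hv) (mul_mem hb' hb)) e, Ndef y ha hb hab,
      Ndef y' ha hb' hab', chi_th_mul (mul_mem hv hv) (mul_mem hb' hb), th_sq hv, C.map_one,
      zero_add, chi_th_mul hb' hb, add_comm]
  have hcomm : ∀ y y' : T, N y * N y' = N y' * N y := by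
    intro y y'
    have h := hidem (y * y')
    rw [hNmul, mul_add, add_mul, add_mul, hidem, hidem] at h
    have h0 : N y * N y' + N y' * N y = 0 := by
      refine DFunLike.ext _ _ fun u => ?_
      have := DFunLike.congr_fun h u
      change N y (N y' u) + N y' (N y u) = 0
      change N y u + N y' (N y u) + (N y (N y' u) + N y' u) = N y u + N y' u at this
      linear_combination this
    refine DFunLike.ext _ _ fun u => ?_
    exact CharTwo.add_eq_zero.1 (DFunLike.congr_fun h0 u)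
  have hconjN : ∀ (k : K) (y : T) (u : F),
      N ⟨(k : MulAut P) y, layer_invariant hA k y y.2⟩ ((C.c k : F) * u) = C.c k * N y u := by
    intro k y u
    obtain ⟨a, ha, rfl⟩ := chi_surj hA hS C hm hm' u
    obtain ⟨b, hb, hab⟩ := d_root ha (y : P)
    rw [Ndef y ha hb hab, ← C.equiv k _ (th ha), ← C.equiv k _ (th hb), map_pow, map_pow]
    refine Ndef _ (hA.inv k _ ha) (hA.inv k _ hb) ?_
    rw [← map_mul (k : MulAut P) b b, ← hab, delta_map hA]
  have hdich := idempotent_dichotomy N hidem hcomm fun x hx y => by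
    obtain ⟨k, hk⟩ := C.c.surjective (Units.mk0 x hx)
    exact ⟨⟨(k : MulAut P) y, layer_invariant hA k y y.2⟩, fun u => by
      have := hconjN k y u
      rwa [hk, Units.val_mk0] at this⟩
  -- `N` vanishes
  have hN0 : ∀ y : T, N y = 0 := by
    let T₀ : Subgroup P :=
      { carrier := {y | ∃ h : y ∈ T, N ⟨y, h⟩ = 0}
        one_mem' := ⟨one_mem T, by
          have := hNmul 1 1
          rw [mul_one] at this
          exact left_eq_add.1 this⟩
        mul_mem' := fun {y y'} hy hy' => ⟨mul_mem hy.1 hy'.1, by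
          rw [show (⟨y * y', mul_mem hy.1 hy'.1⟩ : T) = ⟨y, hy.1⟩ * ⟨y', hy'.1⟩ from rfl, hNmul,
            hy.2, hy'.2, add_zero]⟩
        inv_mem' := fun {y} hy => ⟨inv_mem hy.1, by
          have h1 := hNmul ⟨y⁻¹, inv_mem hy.1⟩ ⟨y, hy.1⟩
          have h2 := hNmul 1 1
          rw [mul_one] at h2
          rw [show (⟨y⁻¹, inv_mem hy.1⟩ : T) * ⟨y, hy.1⟩ = 1 from Subtype.ext (inv_mul_cancel y),
            left_eq_add.1 h2, hy.2, add_zero] at h1
          exact h1.symm⟩ }
    intro y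
    rcases hdich y with h | h
    · exact h
    exfalso
    obtain ⟨x₀, y₀, hxy, hx1, hx2, hy1, hy2⟩ := hS.two
    obtain ⟨k, hk, -⟩ := hS.regular x₀ y₀ hx1 hx2 hy1 hy2
    have hk1 : k ≠ 1 := by rintro rfl; exact hxy hk
    have hky : N ⟨(k : MulAut P) y, layer_invariant hA k y y.2⟩ = 1 := by
      refine DFunLike.ext _ _ fun u => ?_
      have := hconjN k y (u / (C.c k : F))
      rw [mul_div_cancel₀ _ (C.c k).ne_zero] at this
      rw [this, h]
      exact mul_div_cancel₀ _ (C.c k).ne_zero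
    have hinv : Invariant K T₀ := by
      rintro l z ⟨hz, hz0⟩
      refine ⟨layer_invariant hA l z hz, DFunLike.ext _ _ fun u => ?_⟩
      have := hconjN l ⟨z, hz⟩ (u / (C.c l : F))
      rw [mul_div_cancel₀ _ (C.c l).ne_zero, hz0] at this
      rw [this]
      exact mul_zero _
    have hmem : (y : P) ∈ T₀ := by
      refine mem_of_fixed_coset hS hinv hk1 ⟨mul_mem (inv_mem y.2) (layer_invariant hA k y y.2), ?_⟩
      have h1 : N y⁻¹ = 1 := by
        have h2 := hNmul y⁻¹ y
        have h3 := hNmul 1 1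
        rw [mul_one] at h3
        rw [inv_mul_cancel, left_eq_add.1 h3, h] at h2
        refine DFunLike.ext _ _ fun u => ?_
        exact CharTwo.add_eq_zero.1 (DFunLike.congr_fun h2.symm u)
      rw [show (⟨(y : P)⁻¹ * (k : MulAut P) y, _⟩ : T) =
        y⁻¹ * ⟨(k : MulAut P) y, layer_invariant hA k y y.2⟩ from rfl, hNmul, h1, hky]
      exact DFunLike.ext _ _ fun u => CharTwo.add_self_eq_zero u
    obtain ⟨hy', h0⟩ := hmem
    have : (1 : F) = 0 := by
      have := DFunLike.congr_fun (h.symm.trans h0) (1 : F)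
      exact this
    exact one_ne_zero this
  -- commutators lie in the fourth powers
  have d_four : ∀ {a}, a ∈ A → ∀ {y}, y ∈ T → ∃ w ∈ A, y * a * y⁻¹ * a⁻¹ = w * w * (w * w) := by
    intro a ha y hy
    obtain ⟨b, hb, hab⟩ := d_root ha y
    have := Ndef ⟨y, hy⟩ ha hb hab
    rw [hN0] at this
    obtain ⟨w, hw, rfl⟩ := exists_sq hA hS hm hm' (by omega) hb (C.eq_one _ (th hb) this.symm)
    exact ⟨w, hw, hab⟩
  have d_omega : ∀ {a}, a ∈ A → ∀ {y}, y ∈ T → y * a * y⁻¹ * a⁻¹ ∈ omega hS := by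
    intro a ha y hy
    have key : ∀ j : ℕ, ∀ a ∈ A, ∃ a' ∈ A,
        (y * a * y⁻¹ * a⁻¹) ^ 2 = ((y * a' * y⁻¹ * a'⁻¹) ^ 2) ^ 2 ^ j := by
      intro j
      induction j with
      | zero => exact fun a ha => ⟨a, ha, by simp⟩
      | succ j ih =>
        intro a ha
        obtain ⟨a', ha', he⟩ := ih a ha
        obtain ⟨w, hw, hw4⟩ := d_four ha' hy
        refine ⟨w⁻¹, inv_mem hw, ?_⟩
        rw [he, pow_succ' 2 j, pow_mul]
        congr 1
        have h := d_twice ha' (hy.1)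
        rw [hw4, d_sq (mul_mem hw hw), d_sq hw, ← hw4] at h
        have hinvd : y * w⁻¹ * y⁻¹ * w⁻¹⁻¹ = (y * w * y⁻¹ * w⁻¹)⁻¹ := by
          have h1 := d_mul hw (inv_mem hw) y
          rw [mul_inv_cancel, inv_one, mul_one, mul_one, mul_inv_cancel] at h1
          exact eq_inv_of_mul_eq_one_right h1.symm
        rw [hinvd, inv_pow, inv_pow, sq (y * a' * y⁻¹ * a'⁻¹), eq_inv_of_mul_eq_one_right h,
          sq, sq]
    obtain ⟨a', ha', he⟩ := key (m + 1) a ha
    change (y * a * y⁻¹ * a⁻¹) * (y * a * y⁻¹ * a⁻¹) = 1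
    rw [← sq, he, ← pow_mul, mul_comm, pow_mul, hm _ (dA ha' y), one_pow]
  have d_sq1 : ∀ {a}, a ∈ A → ∀ {y}, y ∈ T → y * (a * a) * y⁻¹ * (a * a)⁻¹ = 1 := by
    intro a ha y hy
    rw [d_sq ha]
    exact d_omega ha hy
  -- squares of elements outside `A`
  have Qker : ∀ {y}, y ∈ T → C.χ ((y * y) ^ 2 ^ m) = 0 → y ∈ A := by
    intro y hy h
    obtain ⟨w, hw, hyy⟩ := exists_sq hA hS hm hm' (by omega) hy.1 (C.eq_one _ (th hy.1) h)
    set d := y * w⁻¹ * y⁻¹ * w⁻¹⁻¹
    have hd : d ∈ omega hS := d_omega (inv_mem hw) hy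
    obtain ⟨c, hc, hce⟩ := theta_surj hA hS hm hm' hd
    set e := c ^ 2 ^ (m - 2)
    have heA : e ∈ A := pow_mem hc _
    have he4 : e * e * (e * e) = d := by
      rw [← hce, ← sq, ← sq, ← pow_mul, ← pow_mul, show 2 ^ (m - 2) * (2 * 2) = 2 ^ m from by
        rw [show (2 : ℕ) * 2 = 2 ^ 2 by norm_num, ← pow_add, Nat.sub_add_cancel hm2]]
    set x := w⁻¹ * (e * e)
    have hxA : x ∈ A := mul_mem (inv_mem hw) (mul_mem heA heA)
    have hx : y * x * y⁻¹ * x⁻¹ = d := by
      rw [d_mul (inv_mem hw) (mul_mem heA heA), d_sq1 heA hy, mul_one]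
    have h1 : x * y * (x * y) = 1 := by
      calc x * y * (x * y) = x * (y * x * y⁻¹ * x⁻¹) * x * (y * y) := by group
        _ = w⁻¹ * (e * e) * d * (w⁻¹ * (e * e)) * (y * y) := by rw [hx]
        _ = w⁻¹ * ((e * e) * (d * w⁻¹)) * (e * e) * (w * w) := by rw [hyy]; group
        _ = w⁻¹ * ((d * w⁻¹) * (e * e)) * (e * e) * (w * w) := by
            rw [hA.comm _ (mul_mem heA heA) _ (mul_mem (omega_le hA hS hd) (inv_mem hw))]
        _ = w⁻¹ * d * (w⁻¹ * (e * e * (e * e))) * (w * w) := by group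
        _ = w⁻¹ * (d * (w⁻¹ * d)) * (w * w) := by rw [he4]; group
        _ = w⁻¹ * (d * (d * w⁻¹)) * (w * w) := by
            rw [hA.comm _ (inv_mem hw) _ (omega_le hA hS hd)]
        _ = w⁻¹ * (d * d) * w := by group
        _ = 1 := by rw [show d * d = 1 from hd]; group
    have := mul_mem (inv_mem hxA) (omega_le hA hS h1)
    rwa [inv_mul_cancel_left] at this
  -- additivity of `Q`
  have Qadd : ∀ {y y'}, y ∈ T → y' ∈ T →
      C.χ ((y * y' * (y * y')) ^ 2 ^ m) = C.χ ((y * y) ^ 2 ^ m) + C.χ ((y' * y') ^ 2 ^ m) := by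
    intro y y' hy hy'
    set c := y' * y * y'⁻¹ * y⁻¹ with hc
    have hcA : c ∈ A := hy.2 y'
    have hcc : c * c ∈ omega hS := by
      have h1 : y * (y' * y')⁻¹ * y⁻¹ * (y' * y')⁻¹⁻¹ =
          (y' * c * y'⁻¹ * c⁻¹) * (c * c) := by
        have h2 := hA.comm _ hy'.1 _ (dA (inv_mem hy'.1) y)
        calc y * (y' * y')⁻¹ * y⁻¹ * (y' * y')⁻¹⁻¹
            = (y' * y') * (y * (y' * y')⁻¹ * y⁻¹ * (y' * y')⁻¹⁻¹) * (y' * y')⁻¹ := by
              rw [h2]; group
          _ = _ := by rw [hc]; group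
      have h3 : c * c = (y' * c * y'⁻¹ * c⁻¹)⁻¹ *
          (y * (y' * y')⁻¹ * y⁻¹ * (y' * y')⁻¹⁻¹) := by rw [h1]; group
      rw [h3]
      exact mul_mem (inv_mem (d_omega hcA hy')) (d_omega (inv_mem hy'.1) hy)
    have e : y * y' * (y * y') = (y * c * y⁻¹ * c⁻¹) * c * (y * y) * (y' * y') := by
      rw [hc]; group
    have hdA := dA hcA y
    rw [e, chi_th_mul (mul_mem (mul_mem hdA hcA) hy.1) hy'.1,
      chi_th_mul (mul_mem hdA hcA) hy.1, chi_th_mul hdA hcA, th_omega (d_omega hcA hy),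
      th_four hcc, C.map_one, add_zero, zero_add]
  -- conclusion
  by_contra htop
  obtain ⟨y₀, -, hy₀, hy₀A⟩ := exists_layer_notMem hA hS.isP (C := (⊤ : Subgroup P)) inferInstance
    le_top (fun h => htop (top_le_iff.1 h))
  have hQs : ∀ v : F, ∃ y ∈ T, C.χ ((y * y) ^ 2 ^ m) = v := by
    intro v
    rcases eq_or_ne v 0 with rfl | hv
    · exact ⟨1, one_mem T, by simp [C.map_one]⟩
    have h0 : C.χ ((y₀ * y₀) ^ 2 ^ m) ≠ 0 := fun h => hy₀A (Qker hy₀ h)
    obtain ⟨k, hk⟩ := C.c.surjective (Units.mk0 _ (div_ne_zero hv h0))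
    refine ⟨_, layer_invariant hA k y₀ hy₀, ?_⟩
    rw [← map_mul, ← map_pow, C.equiv k _ (th hy₀.1), hk, Units.val_mk0, div_mul_cancel₀ _ h0]
  choose sec hsecT hsecQ using hQs
  choose ra hra hrau using chi_surj hA hS C hm hm'
  set B : F → F → F := fun u v => C.χ (sec v * ra u * (sec v)⁻¹ * (ra u)⁻¹) with hB
  have hmod : ∀ {a y}, a ∈ A → y ∈ T →
      C.χ (y * a * y⁻¹ * a⁻¹) = B (C.χ (a ^ 2 ^ m)) (C.χ ((y * y) ^ 2 ^ m)) := by
    intro a y ha hy
    set v := C.χ ((y * y) ^ 2 ^ m) with hv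
    set u := C.χ (a ^ 2 ^ m) with hu
    have h0 : ((ra u)⁻¹ * a) ^ 2 ^ m = 1 := by
      rw [th_mul (inv_mem (hra u)) ha, inv_pow, C.inj (th (hra u)) (th ha) (hrau u), inv_mul_cancel]
    obtain ⟨w, hw, hwe⟩ := exists_sq hA hS hm hm' (by omega) (mul_mem (inv_mem (hra u)) ha) h0
    have hs := hsecT v
    have hbT : y * (sec v)⁻¹ ∈ T := mul_mem hy (inv_mem hs)
    have hbA : y * (sec v)⁻¹ ∈ A := by
      apply Qker hbT
      have := Qadd hbT hs
      rw [inv_mul_cancel_right, hsecQ, ← hv] at this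
      exact add_eq_right.1 this.symm
    set b := y * (sec v)⁻¹
    have hyb : y = b * sec v := by simp [b]
    have h1 : y * a * y⁻¹ * a⁻¹ = sec v * a * (sec v)⁻¹ * a⁻¹ := by
      rw [hyb]
      calc b * sec v * a * (b * sec v)⁻¹ * a⁻¹
          = b * (sec v * a * (sec v)⁻¹) * b⁻¹ * a⁻¹ := by group
        _ = _ := by rw [hA.comm b hbA _ (conj_mem hA ha (sec v))]; group
    simp only [hB]
    rw [h1, show a = ra u * (w * w) by rw [← hwe, mul_inv_cancel_left],
      d_mul (hra u) (mul_mem hw hw), d_sq1 hw hs, mul_one]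
  have hzero : ∀ u v, B u v = 0 := by
    intro u v
    refine alternating_eq_zero exists_sqrt B ?_ ?_ ?_ ?_ u v
    · intro u u' v
      have h := hmod (mul_mem (hra u) (hra u')) (hsecT v)
      rw [chi_th_mul (hra u) (hra u'), hrau, hrau, hsecQ, d_mul (hra u) (hra u'),
        C.map_mul _ _ (d_omega (hra u) (hsecT v)) (d_omega (hra u') (hsecT v))] at h
      exact h.symm
    · intro u v v'
      have h := hmod (hra u) (mul_mem (hsecT v) (hsecT v'))
      rw [Qadd (hsecT v) (hsecT v'), hrau, hsecQ, hsecQ] at h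
      have hd := d_omega (hra u) (hsecT v')
      have e : sec v * sec v' * ra u * (sec v * sec v')⁻¹ * (ra u)⁻¹ =
          (sec v' * ra u * (sec v')⁻¹ * (ra u)⁻¹) * (sec v * ra u * (sec v)⁻¹ * (ra u)⁻¹) := by
        have hc := Subgroup.mem_center_iff.1 (omega_le_center hS hd) (sec v)
        calc sec v * sec v' * ra u * (sec v * sec v')⁻¹ * (ra u)⁻¹
            = sec v * (sec v' * ra u * (sec v')⁻¹ * (ra u)⁻¹) * (ra u) * (sec v)⁻¹ * (ra u)⁻¹ := by
              group
          _ = _ := by rw [hc]; group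
      rw [e, C.map_mul _ _ hd (d_omega (hra u) (hsecT v))] at h
      rw [← h, add_comm]
    · intro x u v hx
      obtain ⟨k, hk⟩ := C.c.surjective (Units.mk0 x hx)
      have h := hmod (hA.inv k _ (hra u)) (layer_invariant hA k _ (hsecT v))
      rw [← delta_map hA, C.equiv k _ (d_omega (hra u) (hsecT v)), ← map_pow,
        C.equiv k _ (th (hra u)), ← map_mul, ← map_pow,
        C.equiv k _ (th (hsecT v).1), hrau, hsecQ, hk, Units.val_mk0] at h
      exact h.symm
    · intro v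
      have h := hmod (hsecT v).1 (hsecT v)
      rw [hsecQ] at h
      rw [← h]
      have : sec v * (sec v * sec v) * (sec v)⁻¹ * (sec v * sec v)⁻¹ = 1 := by group
      rw [this, C.map_one]
  have hle : T ≤ Subgroup.centralizer (A : Set P) := by
    intro y hy
    rw [Subgroup.mem_centralizer_iff]
    intro a ha
    have h := C.eq_one _ (d_omega ha hy) (by rw [hmod ha hy, hzero])
    calc a * y = (y * a * y⁻¹ * a⁻¹) * (a * y) := by rw [h, one_mul]
      _ = y * a := by group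
  rw [centralizer_eq hA hS C hm hm' (by omega)] at hle
  exact hy₀A (hle hy₀)

omit hA C hm hm' [Field F] [Fintype F] [CharP F 2] in
/-- The centre of a non-abelian group with a regular cyclic group on the involutions is elementary. -/
theorem sq_center (hne : ∃ x y : P, x * y ≠ y * x) {z : P} (hz : z ∈ Subgroup.center P) :
    z * z = 1 := by
  classical
  by_contra hzz
  obtain ⟨F, _, _, _, ⟨C⟩⟩ := exists_coord hS
  obtain ⟨A, hA⟩ := exists_maxAbelian K
  have hzA := hA.center_le hz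
  have hz1 : z ≠ 1 := fun h => hzz (by rw [h, one_mul])
  obtain ⟨n, hn⟩ := IsPGroup.iff_card.1 hS.isP
  have hex : ∃ j, ∀ a ∈ A, a ^ 2 ^ j = 1 := ⟨n, fun a _ => by rw [← hn, pow_card_eq_one']⟩
  obtain ⟨m, hm, hm'⟩ : ∃ m, (∀ a ∈ A, a ^ 2 ^ (m + 1) = 1) ∧ ∃ a ∈ A, a ^ 2 ^ m ≠ 1 := by
    have h0 : Nat.find hex ≠ 0 := by
      intro h
      have := Nat.find_spec hex z hzA
      rw [h, pow_zero, pow_one] at this
      exact hz1 this
    refine ⟨Nat.find hex - 1, ?_, ?_⟩
    · rw [Nat.sub_add_cancel (Nat.pos_of_ne_zero h0)]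
      exact Nat.find_spec hex
    · have := Nat.find_min hex (show Nat.find hex - 1 < Nat.find hex by omega)
      push Not at this
      exact this
  have hm1 : 1 ≤ m := by
    by_contra h
    apply hzz
    have := hm z hzA
    rw [show m = 0 by omega, zero_add, pow_one, sq] at this
    exact this
  have hAtop : A ≠ ⊤ := by
    intro h
    obtain ⟨x, y, hxy⟩ := hne
    exact hxy (hA.comm x (h ▸ Subgroup.mem_top x) y (h ▸ Subgroup.mem_top y))
  rcases Nat.lt_or_ge m 2 with h2 | h2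
  · obtain rfl : m = 1 := by omega
    have hcA : A ≤ Subgroup.center P := by
      intro a ha
      obtain ⟨c, hc, hce⟩ : ∃ c ∈ Subgroup.center P, c ^ 2 ^ 1 = a ^ 2 ^ 1 := by
        rcases eq_or_ne (a ^ 2 ^ 1) 1 with h | h
        · exact ⟨1, one_mem _, by rw [one_pow, h]⟩
        have hz2 : z ^ 2 ^ 1 ≠ 1 := by rwa [pow_one, sq]
        obtain ⟨k, hk, -⟩ := hS.regular _ _ hz2 (theta_mem hA hS hm hzA) h
          (theta_mem hA hS hm ha)
        exact ⟨(k : MulAut P) z, invariant_center K k z hz, by rw [← map_pow, hk]⟩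
      obtain ⟨w, hw, hwe⟩ := exists_sq hA hS hm hm' le_rfl (mul_mem (inv_mem (hA.center_le hc)) ha)
        (by rw [mul_pow_A hA (inv_mem (hA.center_le hc)) ha, inv_pow, hce, inv_mul_cancel])
      have hw2 : w * w ∈ omega hS := by
        change w * w * (w * w) = 1
        have := hm w hw
        rwa [show (2 : ℕ) ^ (1 + 1) = 2 + 2 by norm_num, pow_add, sq] at this
      have := mul_mem hc (omega_le_center hS hw2)
      rwa [← hwe, mul_inv_cancel_left] at this
    apply hAtop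
    rw [← centralizer_eq hA hS C hm hm' le_rfl]
    exact eq_top_iff.2 fun g _ => Subgroup.mem_centralizer_iff.2 fun a ha =>
      ((Subgroup.mem_center_iff.1 (hcA ha)) g).symm
  · exact hAtop (eq_top_of_high hA hS C hm hm' h2)

end Cfsg.Agent.H48.Suzuki
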