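import Mathlib

/-!
# Central extensions of elementary abelian 2-groups are determined by their squaring maps
-/

set_option autoImplicit false

namespace Cfsg.Agent.H48.Suzuki

/-- Two finite groups that are central extensions of the same group of exponent two by elementary
abelian groups, with corresponding squares, are isomorphic. -/
theorem iso_of_squares {P G' F : Type*} [Group P] [Finite P] [Group G'] [Finite G']
    [AddCommGroup F] (h2 : ∀ u : F, u + u = 0) (p : P → F) (X : G' → F)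
    (p_mul : ∀ x y, p (x * y) = p x + p y) (X_mul : ∀ x y, X (x * y) = X x + X y)
    (p_surj : ∀ u, ∃ y, p y = u) (X_surj : ∀ u, ∃ g, X g = u) (ι : P → G')
    (p_central : ∀ z, p z = 0 → ∀ y, z * y = y * z)
    (X_central : ∀ n, X n = 0 → ∀ g, n * g = g * n)
    (ι_mul : ∀ z z', p z = 0 → p z' = 0 → ι (z * z') = ι z * ι z')
    (ι_mem : ∀ z, p z = 0 → X (ι z) = 0)
    (ι_inj : ∀ z, p z = 0 → ι z = 1 → z = 1)
    (ι_surj : ∀ n, X n = 0 → ∃ z, p z = 0 ∧ ι z = n)
    (hsq : ∀ y g, p y = X g → g * g = ι (y * y)) : Nonempty (P ≃* G') := by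
  classical
  have p_one : p 1 = 0 := by
    have := p_mul 1 1
    rw [one_mul] at this
    exact left_eq_add.1 this
  have X_one : X 1 = 0 := by
    have := X_mul 1 1
    rw [one_mul] at this
    exact left_eq_add.1 this
  have ι_one : ι 1 = 1 := by
    have := ι_mul 1 1 p_one p_one
    rw [one_mul] at this
    exact left_eq_mul.1 this
  have eqF : ∀ {u v : F}, u + v = 0 → u = v := fun {u v} h => by
    have := h2 v
    exact add_right_cancel (h.trans this.symm)
  have p_inv : ∀ y, p y⁻¹ = p y := fun y => eqF (by rw [← p_mul, inv_mul_cancel, p_one])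
  have X_inv : ∀ g, X g⁻¹ = X g := fun g => eqF (by rw [← X_mul, inv_mul_cancel, X_one])
  let G2 : Subgroup (P × G') :=
    { carrier := {w | p w.1 = X w.2}
      one_mem' := by change p 1 = X 1; rw [p_one, X_one]
      mul_mem' := fun {w w'} hw hw' => by
        change p (w.1 * w'.1) = X (w.2 * w'.2)
        rw [p_mul, X_mul, show p w.1 = X w.2 from hw, show p w'.1 = X w'.2 from hw']
      inv_mem' := fun {w} hw => by
        change p w.1⁻¹ = X w.2⁻¹
        rw [p_inv, X_inv]
        exact hw }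
  let N : Subgroup (P × G') :=
    { carrier := {w | p w.1 = 0 ∧ w.2 = ι w.1}
      one_mem' := ⟨p_one, ι_one.symm⟩
      mul_mem' := fun {w w'} hw hw' => ⟨by
        change p (w.1 * w'.1) = 0
        rw [p_mul, hw.1, hw'.1, add_zero], by
        change w.2 * w'.2 = ι (w.1 * w'.1)
        rw [ι_mul _ _ hw.1 hw'.1, hw.2, hw'.2]⟩
      inv_mem' := fun {w} hw => ⟨by
        change p w.1⁻¹ = 0
        rw [p_inv, hw.1], by
        change w.2⁻¹ = ι w.1⁻¹
        refine inv_eq_of_mul_eq_one_right ?_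
        rw [hw.2, ← ι_mul _ _ hw.1 (by rw [p_inv, hw.1]), mul_inv_cancel, ι_one]⟩ }
  have hNG : N ≤ G2 := by
    rintro w ⟨h1, h2'⟩
    change p w.1 = X w.2
    rw [h1, h2', ι_mem _ h1]
  have hNc : ∀ n ∈ N, ∀ w : P × G', n * w = w * n := by
    intro n hn w
    refine Prod.ext (p_central _ hn.1 _) (X_central _ ?_ _)
    rw [hn.2]
    exact ι_mem _ hn.1
  have hsqN : ∀ w ∈ G2, w * w ∈ N := fun w hw =>
    ⟨by change p (w.1 * w.1) = 0; rw [p_mul, h2], hsq w.1 w.2 hw⟩
  let 𝒮 : Set (Subgroup (P × G')) := {L | N ≤ L ∧ L ≤ G2 ∧ ∀ w ∈ L, p w.1 = 0 → w ∈ N}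
  obtain ⟨L, hL⟩ := (Set.toFinite 𝒮).exists_maximal ⟨N, le_rfl, hNG, fun w hw _ => hw⟩
  have hLN := hL.1.1
  have hLG := hL.1.2.1
  have hLker := hL.1.2.2
  have hcover : ∀ u : F, ∃ w ∈ L, p w.1 = u := by
    intro u
    by_contra hno
    push Not at hno
    obtain ⟨y₀, hy₀⟩ := p_surj u
    obtain ⟨g₀, hg₀⟩ := X_surj u
    obtain ⟨g, hgG, hgu⟩ : ∃ g : P × G', g ∈ G2 ∧ p g.1 = u :=
      ⟨(y₀, g₀), (hy₀.trans hg₀.symm : p y₀ = X g₀), hy₀⟩
    have hg2 : g * g ∈ L := hLN (hsqN g hgG)
    have hconj : ∀ l ∈ L, g * l * g⁻¹ ∈ L := by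
      intro l hl
      have hn : g * l * (g * l) * (l * l)⁻¹ * (g * g)⁻¹ ∈ N :=
        mul_mem (mul_mem (hsqN _ (mul_mem hgG (hLG hl))) (inv_mem (hsqN l (hLG hl))))
          (inv_mem (hsqN g hgG))
      have hll := hNc _ (inv_mem (hsqN g hgG))
      have e : g * l * g⁻¹ = (g * l * (g * l) * (l * l)⁻¹ * (g * g)⁻¹) * l := by
        calc g * l * g⁻¹ = g * l * (g * ((g * g)⁻¹ * l⁻¹)) * l := by group
          _ = g * l * (g * (l⁻¹ * (g * g)⁻¹)) * l := by rw [hll]
          _ = _ := by group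
      rw [e]
      exact mul_mem (hLN hn) hl
    let L' : Subgroup (P × G') :=
      { carrier := {x | x ∈ L ∨ x * g⁻¹ ∈ L}
        one_mem' := Or.inl (one_mem L)
        mul_mem' := by
          rintro x y (hx | hx) (hy | hy)
          · exact Or.inl (mul_mem hx hy)
          · exact Or.inr (by rw [mul_assoc]; exact mul_mem hx hy)
          · refine Or.inr ?_
            have := mul_mem hx (hconj y hy)
            rwa [show x * g⁻¹ * (g * y * g⁻¹) = x * y * g⁻¹ by group] at this
          · refine Or.inl ?_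
            have := mul_mem (mul_mem hx (hconj _ hy)) hg2
            rwa [show x * g⁻¹ * (g * (y * g⁻¹) * g⁻¹) * (g * g) = x * y by group] at this
        inv_mem' := by
          rintro x (hx | hx)
          · exact Or.inl (inv_mem hx)
          · refine Or.inr ?_
            have := mul_mem (inv_mem hg2) (hconj _ (inv_mem hx))
            rwa [show (g * g)⁻¹ * (g * (x * g⁻¹)⁻¹ * g⁻¹) = x⁻¹ * g⁻¹ by group] at this }
    have hmem : L' ∈ 𝒮 := by
      refine ⟨hLN.trans fun x hx => Or.inl hx, ?_, ?_⟩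
      · rintro x (hx | hx)
        · exact hLG hx
        · have := mul_mem (hLG hx) hgG
          rwa [inv_mul_cancel_right] at this
      · rintro x (hx | hx) hp
        · exact hLker x hx hp
        · exfalso
          apply hno _ hx
          have h1 := p_mul (x * g⁻¹).1 g.1
          rw [← Prod.fst_mul, inv_mul_cancel_right, hp] at h1
          exact (eqF h1.symm).trans hgu
    exact hno g (hL.2 hmem (fun x hx => Or.inl hx) (Or.inr (by
      rw [mul_inv_cancel]; exact one_mem L))) hgu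
  let f₁ : L →* P := (MonoidHom.fst P G').comp L.subtype
  let f₂ : L →* G' := (MonoidHom.snd P G').comp L.subtype
  have hf₁ : Function.Bijective f₁ := by
    constructor
    · rw [injective_iff_map_eq_one]
      rintro ⟨w, hw⟩ (h : w.1 = 1)
      apply Subtype.ext
      refine Prod.ext h ?_
      rw [(hLker _ hw (by rw [h, p_one])).2, h, ι_one]
      rfl
    · intro y
      obtain ⟨w, hw, hwy⟩ := hcover (p y)
      have hz : p (w.1⁻¹ * y) = 0 := by rw [p_mul, p_inv, hwy, h2]
      refine ⟨⟨w * (w.1⁻¹ * y, ι (w.1⁻¹ * y)), mul_mem hw (hLN ⟨hz, rfl⟩)⟩, ?_⟩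
      change w.1 * (w.1⁻¹ * y) = y
      rw [mul_inv_cancel_left]
  have hf₂ : Function.Bijective f₂ := by
    constructor
    · rw [injective_iff_map_eq_one]
      rintro ⟨w, hw⟩ (h : w.2 = 1)
      have h0 : p w.1 = 0 := by
        rw [show p w.1 = X w.2 from hLG hw, h, X_one]
      have h1 := (hLker _ hw h0).2
      rw [h] at h1
      exact Subtype.ext (Prod.ext (ι_inj _ h0 h1.symm) h)
    · intro g
      obtain ⟨w, hw, hwg⟩ := hcover (X g)
      have h0 : X (w.2⁻¹ * g) = 0 := by
        rw [X_mul, X_inv, ← show p w.1 = X w.2 from hLG hw, hwg, h2]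
      obtain ⟨z, hz, hzv⟩ := ι_surj _ h0
      refine ⟨⟨w * (z, w.2⁻¹ * g), mul_mem hw (hLN ⟨hz, hzv.symm⟩)⟩, ?_⟩
      change w.2 * (w.2⁻¹ * g) = g
      rw [mul_inv_cancel_left]
  exact ⟨(MulEquiv.ofBijective f₁ hf₁).symm.trans (MulEquiv.ofBijective f₂ hf₂)⟩

end Cfsg.Agent.H48.Suzuki
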