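import Cfsg.Agent.H48.Suzuki.Quotient

/-!
# Higman: the order of a Suzuki 2-group is `q²` or `q³`
-/

set_option autoImplicit false

namespace Cfsg.Agent.H48.Suzuki

variable {P : Type*} [Group P] [Finite P] {K : Subgroup (MulAut P)} (hS : Setup K)
include hS

/-- Squares and commutators lie in the subgroup of involutions. -/
theorem quotient_elementary (hne : ∃ x y : P, x * y ≠ y * x) :
    ∀ y g : P, y * y ∈ omega hS ∧ g * y * g⁻¹ * y⁻¹ ∈ omega hS := by
  classical
  obtain ⟨F, _, _, _, ⟨C⟩⟩ := exists_coord hS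
  obtain ⟨A, hA⟩ := exists_maxAbelian K
  obtain ⟨n, hn⟩ := IsPGroup.iff_card.1 hS.isP
  have hex : ∃ j, ∀ a ∈ A, a ^ 2 ^ j = 1 := ⟨n, fun a _ => by rw [← hn, pow_card_eq_one']⟩
  have hAtop : A ≠ ⊤ := by
    intro h
    obtain ⟨x, y, hxy⟩ := hne
    exact hxy (hA.comm x (h ▸ Subgroup.mem_top x) y (h ▸ Subgroup.mem_top y))
  rcases Nat.lt_or_ge (Nat.find hex) 2 with h2 | h2
  · refine low hA hS hne fun a ha => ?_
    have := Nat.find_spec hex a ha
    rcases (by omega : Nat.find hex = 0 ∨ Nat.find hex = 1) with h | h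
    · rw [h, pow_zero, pow_one] at this
      rw [this, one_mul]
    · rwa [h, pow_one, sq] at this
  · obtain ⟨m, hm⟩ : ∃ m, Nat.find hex = m + 1 := ⟨Nat.find hex - 1, by omega⟩
    have hmm : ∀ a ∈ A, a ^ 2 ^ (m + 1) = 1 := hm ▸ Nat.find_spec hex
    have hm' : ∃ a ∈ A, a ^ 2 ^ m ≠ 1 := by
      have := Nat.find_min hex (show m < Nat.find hex by omega)
      push Not at this
      exact this
    rcases Nat.lt_or_ge m 2 with h | h
    · obtain rfl : m = 1 := by omega
      exact middle hA hS C hmm hm'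
    · exact absurd (eq_top_of_high hA hS C hmm hm' h) hAtop

/-- The involutions together with the identity form the centre. -/
theorem omega_eq_center (hne : ∃ x y : P, x * y ≠ y * x) : omega hS = Subgroup.center P :=
  le_antisymm (omega_le_center hS) fun _ hz => sq_center hS hne hz

/-- **Higman**: `|P|` is `q²` or `q³`. -/
theorem card_eq (hne : ∃ x y : P, x * y ≠ y * x) :
    Nat.card P = Nat.card (Subgroup.center P) ^ 2 ∨ Nat.card P = Nat.card (Subgroup.center P) ^ 3 := by
  classical
  rw [← omega_eq_center hS hne]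
  obtain ⟨F, _, _, _, ⟨C⟩⟩ := exists_coord hS
  have hq := quotient_elementary hS hne
  set Z := omega hS with hZ
  have hnZ : Z.Normal := by
    rw [hZ, omega_eq_center hS hne]
    infer_instance
  have hZc : ∀ {z : P}, z ∈ Z → ∀ g, g * z = z * g := fun hz g =>
    Subgroup.mem_center_iff.1 (omega_le_center hS hz) g
  let sq' : P → F := fun y => C.χ (y * y)
  let b : P → P → F := fun u v => C.χ (u⁻¹ * v * u * v⁻¹)
  have hbmem : ∀ u v : P, u⁻¹ * v * u * v⁻¹ ∈ Z := fun u v => by
    have := (hq v u⁻¹).2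
    rwa [inv_inv] at this
  have hsq' : ∀ u v, sq' (u * v) = sq' u + sq' v + b u v := by
    intro u v
    have e : u * v * (u * v) = u * u * (u⁻¹ * v * u * v⁻¹) * (v * v) := by group
    change C.χ (u * v * (u * v)) = _
    rw [e, C.map_mul _ _ (mul_mem (hq u 1).1 (hbmem u v)) (hq v 1).1,
      C.map_mul _ _ (hq u 1).1 (hbmem u v)]
    change _ = C.χ (u * u) + C.χ (v * v) + C.χ _
    ring
  have hb : ∀ u u' v, b (u * u') v = b u v + b u' v := by
    intro u u' v
    change C.χ _ = C.χ _ + C.χ _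
    have e : (u * u')⁻¹ * v * (u * u') * v⁻¹ = u⁻¹ * v * u * v⁻¹ * (u'⁻¹ * v * u' * v⁻¹) := by
      have h := hZc (hbmem u v) u'⁻¹
      calc (u * u')⁻¹ * v * (u * u') * v⁻¹
          = (u'⁻¹ * (u⁻¹ * v * u * v⁻¹)) * (v * u' * v⁻¹) := by group
        _ = _ := by rw [h]; group
    rw [e, C.map_mul _ _ (hbmem u v) (hbmem u' v)]
  have hsqz : ∀ y z, z ∈ Z → sq' (y * z) = sq' y := by
    intro y z hz
    have hzz : z * z = 1 := hz
    change C.χ (y * z * (y * z)) = C.χ (y * y)
    congr 1
    calc y * z * (y * z) = y * (z * y) * z := by group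
      _ = y * y * (z * z) := by rw [← hZc hz y]; group
      _ = _ := by rw [hzz, mul_one]
  letI : CommGroup (P ⧸ Z) :=
    { (inferInstance : Group (P ⧸ Z)) with
      mul_comm := fun a c => by
        induction a using QuotientGroup.induction_on with | H a => ?_
        induction c using QuotientGroup.induction_on with | H c => ?_
        change ((a * c : P) : P ⧸ Z) = ((c * a : P) : P ⧸ Z)
        rw [QuotientGroup.eq]
        have := (hq a⁻¹ c⁻¹).2
        rw [inv_inv, inv_inv] at this
        rwa [show (a * c)⁻¹ * (c * a) = c⁻¹ * a⁻¹ * c * a by group] }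
  let f : Additive (P ⧸ Z) → F := fun v => Quotient.liftOn' (Additive.toMul v) sq' fun a c h => by
    rw [QuotientGroup.leftRel_apply] at h
    have := hsqz a _ h
    rwa [mul_inv_cancel_left, eq_comm] at this
  have hf : ∀ y : P, f (Additive.ofMul (y : P ⧸ Z)) = sq' y := fun y => rfl
  have hrep : ∀ v : Additive (P ⧸ Z), ∃ y : P, Additive.ofMul (y : P ⧸ Z) = v := fun v =>
    QuotientGroup.mk_surjective (Additive.toMul v)
  have hadd : ∀ a c : P, Additive.ofMul (a : P ⧸ Z) + Additive.ofMul (c : P ⧸ Z) =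
      Additive.ofMul ((a * c : P) : P ⧸ Z) := fun _ _ => rfl
  have hV : ∀ v : Additive (P ⧸ Z), v + v = 0 := fun v => by
    obtain ⟨y, rfl⟩ := hrep v
    rw [hadd]
    exact congrArg Additive.ofMul ((QuotientGroup.eq_one_iff _).2 (hq y 1).1)
  have hchi : Function.Bijective fun z : Z => C.χ z := by
    constructor
    · intro a c h
      exact Subtype.ext (C.inj a.2 c.2 h)
    · intro u
      obtain ⟨x, hx, hxu⟩ := C.surj u
      exact ⟨⟨x, hx⟩, hxu⟩
  have hcZ : Nat.card Z = Nat.card F := Nat.card_eq_of_bijective _ hchi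
  have hle : Nat.card (P ⧸ Z) ≤ Nat.card F ^ 2 := by
    refine le_of_eq_of_le (Nat.card_congr Additive.ofMul) (anisotropic_bound hV (fun w => CharTwo.add_self_eq_zero w) f
      (fun u v => f (u + v) - f u - f v) ?_ (fun u v => by ring) ?_)
    · intro u v w
      obtain ⟨a, rfl⟩ := hrep u
      obtain ⟨c, rfl⟩ := hrep v
      obtain ⟨d, rfl⟩ := hrep w
      simp only [hadd, hf, hsq', hb]
      ring
    · intro v
      obtain ⟨y, rfl⟩ := hrep v
      rw [hf]
      constructor
      · intro h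
        exact congrArg Additive.ofMul ((QuotientGroup.eq_one_iff _).2
          (C.eq_one _ (hq y 1).1 h))
      · intro h
        have h' : (y : P ⧸ Z) = 1 := congrArg Additive.toMul h
        rw [QuotientGroup.eq_one_iff] at h'
        change C.χ (y * y) = 0
        rw [show y * y = 1 from h', C.map_one]
  -- the action of `K` on the quotient
  have hinv : Invariant K Z := fun k x hx => map_omega hS k hx
  have hfix : Nat.card K ∣ Nat.card (P ⧸ Z) - 1 := by
    let act : K → P ⧸ Z → P ⧸ Z := fun k => QuotientGroup.map Z Z (k : MulAut P).toMonoidHom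
      (fun x hx => hinv k x hx)
    have hact : ∀ (k : K) (y : P), act k (y : P ⧸ Z) = (((k : MulAut P) y : P) : P ⧸ Z) := fun _ _ => rfl
    have hne1 : ∀ (k : K) (v : P ⧸ Z), v ≠ 1 → act k v ≠ 1 := by
      intro k v hv h
      obtain ⟨y, rfl⟩ := QuotientGroup.mk_surjective v
      rw [hact, QuotientGroup.eq_one_iff] at h
      have := hinv k⁻¹ _ h
      rw [Subgroup.coe_inv, ← MulAut.mul_apply, inv_mul_cancel, MulAut.one_apply] at this
      exact hv ((QuotientGroup.eq_one_iff _).2 this)
    letI : MulAction K {v : P ⧸ Z // v ≠ 1} :=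
      { smul := fun k v => ⟨act k v, hne1 k v v.2⟩
        one_smul := fun v => by
          obtain ⟨⟨y⟩, hy⟩ := v
          rfl
        mul_smul := fun k l v => by
          obtain ⟨⟨y⟩, hy⟩ := v
          rfl }
    have : Fintype K := Fintype.ofFinite _
    have : Fintype {v : P ⧸ Z // v ≠ 1} := Fintype.ofFinite _
    have hsum := MulAction.sum_card_fixedBy_eq_card_orbits_mul_card_group K {v : P ⧸ Z // v ≠ 1}
    rw [Finset.sum_eq_single (1 : K)] at hsum
    · have e : Fintype.card (MulAction.fixedBy {v : P ⧸ Z // v ≠ 1} (1 : K)) =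
          Nat.card (P ⧸ Z) - 1 := by
        rw [Fintype.card_congr ((Equiv.setCongr (MulAction.fixedBy_one_eq_univ
          (α := {v : P ⧸ Z // v ≠ 1}) (M := K))).trans (Equiv.Set.univ _))]
        have : Fintype (P ⧸ Z) := Fintype.ofFinite _
        rw [Fintype.card_subtype_compl, Fintype.card_subtype_eq, Nat.card_eq_fintype_card]
      rw [← e, hsum, Nat.card_eq_fintype_card]
      exact Dvd.intro_left _ rfl
    · intro k _ hk
      rw [Fintype.card_eq_zero_iff]
      constructor
      rintro ⟨⟨v, hv⟩, hfx⟩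
      obtain ⟨y, rfl⟩ := QuotientGroup.mk_surjective v
      have h1 : (((k : MulAut P) y : P) : P ⧸ Z) = (y : P ⧸ Z) := congrArg Subtype.val hfx
      rw [eq_comm, QuotientGroup.eq] at h1
      exact hv ((QuotientGroup.eq_one_iff _).2 (mem_of_fixed_coset hS hinv hk h1))
    · exact fun h => absurd (Finset.mem_univ _) h
  -- numerology
  have hK : Nat.card K = Nat.card F - 1 := by
    rw [Nat.card_congr C.c.toEquiv, Nat.card_units]
  obtain ⟨N, hN⟩ := IsPGroup.iff_card.1 (hS.isP.to_quotient Z)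
  obtain ⟨n, hn⟩ := IsPGroup.iff_card.1 (hS.isP.to_subgroup Z)
  rw [Subgroup.card_eq_card_quotient_mul_card_subgroup Z, hN, hn]
  rw [hN, ← hcZ, hn, ← pow_mul] at hle
  rw [hK, ← hcZ, hn, hN] at hfix
  have hN0 : N ≠ 0 := by
    intro h
    rw [h, pow_zero] at hN
    have hs : Subsingleton (P ⧸ Z) := (Nat.card_eq_one_iff_unique.1 hN).1
    obtain ⟨x, y, hxy⟩ := hne
    exact hxy (hZc ((QuotientGroup.eq_one_iff y).1 (Subsingleton.elim _ _)) x)
  have hn1 : 1 ≤ n := by
    by_contra h
    rw [show n = 0 by omega, pow_zero] at hn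
    obtain ⟨x, _, _, hx1, hx2, -⟩ := hS.two
    have := (Nat.card_eq_one_iff_unique.1 hn).1
    exact hx1 (congrArg Subtype.val (Subsingleton.elim (⟨x, hx2⟩ : Z) 1))
  have hgcd : Nat.gcd n N = n := by
    have h := Nat.pow_sub_one_gcd_pow_sub_one 2 n N
    rw [Nat.gcd_eq_left hfix] at h
    have h1 : 1 ≤ 2 ^ n := Nat.one_le_two_pow
    have h2 : 1 ≤ 2 ^ Nat.gcd n N := Nat.one_le_two_pow
    exact (Nat.pow_right_injective (le_refl 2) (show 2 ^ n = 2 ^ Nat.gcd n N by omega)).symm
  obtain ⟨j, hj⟩ : n ∣ N := hgcd ▸ Nat.gcd_dvd_right n N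
  have hj2 : j ≤ 2 := by
    have := (Nat.pow_le_pow_iff_right (by norm_num)).1 hle
    rw [hj] at this
    by_contra hcon
    have : n * 3 ≤ n * j := Nat.mul_le_mul_left n (by omega)
    omega
  rcases (by omega : j = 0 ∨ j = 1 ∨ j = 2) with rfl | rfl | rfl
  · exact absurd (by rw [hj, mul_zero]) hN0
  · left; rw [hj, mul_one]; ring
  · right; rw [hj]; ring

/-- The exponent is four. -/
theorem exponent_eq_four (hne : ∃ x y : P, x * y ≠ y * x) : Monoid.exponent P = 4 := by
  have h4 : Monoid.exponent P ∣ 4 := Monoid.exponent_dvd_of_forall_pow_eq_one fun y => by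
    have h : y * y * (y * y) = 1 := (quotient_elementary hS hne y 1).1
    rw [show (4 : ℕ) = 2 + 2 from rfl, pow_add, sq, h]
  have h2 : ¬ Monoid.exponent P ∣ 2 := by
    intro h
    obtain ⟨x, y, hxy⟩ := hne
    have e : ∀ z : P, z⁻¹ = z := fun z => inv_eq_of_mul_eq_one_right (by
      rw [← sq]; exact Monoid.exponent_dvd_iff_forall_pow_eq_one.1 h z)
    exact hxy (by rw [← e (x * y), mul_inv_rev, e, e])
  have hle := Nat.le_of_dvd (by norm_num) h4
  interval_cases h : Monoid.exponent P <;> first | rfl | (exfalso; revert h4 h2; norm_num)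

end Cfsg.Agent.H48.Suzuki
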