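import Cfsg.Agent.H48.Suzuki.High
import Cfsg.Agent.H48.Suzuki.Aniso
import Cfsg.Agent.H48.Suzuki.Weights

/-!
# Higman: the quotient of a Suzuki 2-group by its centre is elementary of order `q` or `q²`
-/

set_option autoImplicit false

namespace Cfsg.Agent.H48.Suzuki

variable {P : Type*} [Group P] [Finite P] {K : Subgroup (MulAut P)} {A : Subgroup P}

/-- With an elementary maximal abelian invariant normal subgroup, squares and commutators are central. -/
theorem low (hA : IsMaxAbelian K A) (hS : Setup K) (hne : ∃ x y : P, x * y ≠ y * x)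
    (h0 : ∀ a ∈ A, a * a = 1) :
    ∀ y g : P, y * y ∈ omega hS ∧ g * y * g⁻¹ * y⁻¹ ∈ omega hS := by
  classical
  have hZo : ∀ z ∈ Subgroup.center P, z ∈ omega hS := fun z hz => sq_center hS hne hz
  have hAZ : ∀ a ∈ A, a ∈ Subgroup.center P := fun a ha => omega_le_center hS (h0 a ha)
  set L := layer A hA.normal with hL
  set C := Subgroup.closure (Set.range (fun g : P => g * g) ∪ (A : Set P)) with hC
  -- squares centralise the layer
  have hcent : ∀ g, ∀ y ∈ L, y * (g * g) = (g * g) * y := by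
    intro g y hy
    set c := g * y * g⁻¹ * y⁻¹ with hc
    have hcA : c ∈ A := hy.2 g
    have h1 : g * c = c * g := Subgroup.mem_center_iff.1 (hAZ c hcA) g
    have h2 : c * c = 1 := h0 c hcA
    have h3 : (g * g) * y * (g * g)⁻¹ * y⁻¹ = 1 := by
      calc (g * g) * y * (g * g)⁻¹ * y⁻¹ = g * c * g⁻¹ * c := by rw [hc]; group
        _ = 1 := by rw [h1, mul_inv_cancel_right, h2]
    calc y * (g * g) = ((g * g) * y * (g * g)⁻¹ * y⁻¹) * (y * (g * g)) := by rw [h3, one_mul]
      _ = _ := by group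
  have hCn : C.Normal := by
    constructor
    intro x hx g
    have : C ≤ C.comap (MulAut.conj g).toMonoidHom := by
      rw [hC, Subgroup.closure_le]
      rintro z (⟨w, rfl⟩ | hz)
      · refine Subgroup.subset_closure (Or.inl ⟨g * w * g⁻¹, ?_⟩)
        simp [mul_assoc]
      · exact Subgroup.subset_closure (Or.inr (hA.normal.conj_mem z hz g))
    exact this hx
  have hAC : A ≤ C := fun a ha => Subgroup.subset_closure (Or.inr ha)
  have hCle : C ≤ A := by
    by_contra hne'
    obtain ⟨y, hyC, hyL, hyA⟩ := exists_layer_notMem hA hS.isP hCn hAC hne'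
    have hcomm : ∀ x ∈ C, ∀ z ∈ L, z * x = x * z := by
      intro x hx z hz
      have hle : C ≤ Subgroup.centralizer {z} := by
        rw [hC, Subgroup.closure_le]
        rintro w (⟨g, rfl⟩ | hw)
        · exact Subgroup.mem_centralizer_singleton_iff.2 (hcent g z hz).symm
        · exact Subgroup.mem_centralizer_singleton_iff.2 ((Subgroup.mem_center_iff.1 (hAZ w hw) z).symm)
      exact (Subgroup.mem_centralizer_singleton_iff.1 (hle hx)).symm
    have hCinv : Invariant K C := by
      intro k x hx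
      have : C ≤ C.comap (k : MulAut P).toMonoidHom := by
        rw [hC, Subgroup.closure_le]
        rintro z (⟨w, rfl⟩ | hz)
        · exact Subgroup.subset_closure (Or.inl ⟨(k : MulAut P) w, ((k : MulAut P).map_mul w w).symm⟩)
        · exact Subgroup.subset_closure (Or.inr (hA.inv k z hz))
      exact this hx
    have hBn : (C ⊓ L).Normal := by
      constructor
      intro x hx g
      refine ⟨hCn.conj_mem x hx.1 g, ?_⟩
      have h1 : g * x * g⁻¹ * x⁻¹ ∈ L := le_layer hA (hx.2.2 g)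
      have := mul_mem h1 hx.2
      rwa [inv_mul_cancel_right] at this
    have := hA.max (C ⊓ L) (le_inf hAC (le_layer hA)) (fun x hx z hz => (hcomm x hx.1 z hz.2).symm ▸ rfl)
      hBn (fun k x hx => ⟨hCinv k x hx.1, layer_invariant hA k x hx.2⟩)
    exact hyA (this ▸ ⟨hyC, hyL⟩)
  have hsqA : ∀ w : P, w * w ∈ A := fun w => hCle (Subgroup.subset_closure (Or.inl ⟨w, rfl⟩))
  intro y g
  refine ⟨h0 _ (hsqA y), h0 _ ?_⟩
  have e : g * y * g⁻¹ * y⁻¹ = (g * y) * (g * y) * (y⁻¹ * ((g⁻¹ * g⁻¹) * (y⁻¹ * y⁻¹)) * y) * 1 := by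
    group
  have h1 := hA.normal.conj_mem _ (mul_mem (hsqA g⁻¹) (hsqA y⁻¹)) y⁻¹
  rw [inv_inv] at h1
  rw [e, mul_one]
  exact mul_mem (hsqA (g * y)) h1

section Middle

variable (hA : IsMaxAbelian K A) (hS : Setup K)
variable {F : Type} [Field F] [Fintype F] [CharP F 2] (C : Coord hS F)
variable (hm : ∀ a ∈ A, a ^ 2 ^ (1 + 1) = 1) (hm' : ∃ a ∈ A, a ^ 2 ^ 1 ≠ 1)

include hA C hm hm' in
/-- With a maximal abelian invariant normal subgroup of exponent four, squares and commutators are central. -/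
theorem middle : ∀ y g : P, y * y ∈ omega hS ∧ g * y * g⁻¹ * y⁻¹ ∈ omega hS := by
  classical
  letI : Fintype (F ≃+* F) := @Fintype.ofFinite _ FieldAut.finite_aut
  have two : ∀ u : F, u + u = 0 := CharTwo.add_self_eq_zero
  have th : ∀ {a}, a ∈ A → a * a ∈ omega hS := fun {a} ha => by
    have := theta_mem hA hS hm ha
    rwa [pow_one, sq] at this
  have hsq : ∀ {a b}, a ∈ A → b ∈ A → (a * b) * (a * b) = (a * a) * (b * b) := by
    intro a b ha hb
    rw [← sq, ← sq, ← sq, mul_pow_A hA ha hb]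
  have hd : ∀ y {a}, a ∈ A → y * a * y⁻¹ * a⁻¹ ∈ omega hS := by
    intro y a ha
    change (y * a * y⁻¹ * a⁻¹) * (y * a * y⁻¹ * a⁻¹) = 1
    rw [← delta_mul hA ha ha, Subgroup.mem_center_iff.1 (omega_le_center hS (th ha)) y]
    group
  have hdω : ∀ y {w}, w ∈ omega hS → y * w * y⁻¹ * w⁻¹ = 1 := by
    intro y w hw
    rw [Subgroup.mem_center_iff.1 (omega_le_center hS hw) y]
    group
  choose ra hra hrau using fun u : F => chi_surj hA hS C hm hm' u
  have hrau' : ∀ u, C.χ (ra u * ra u) = u := fun u => by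
    have := hrau u
    rwa [pow_one, sq] at this
  -- the map `T y`
  have hmod : ∀ y {a}, a ∈ A →
      C.χ (y * a * y⁻¹ * a⁻¹) =
        C.χ (y * ra (C.χ (a * a)) * y⁻¹ * (ra (C.χ (a * a)))⁻¹) := by
    intro y a ha
    set b := ra (C.χ (a * a))
    have hb : b ∈ A := hra _
    have he : a * a = b * b := C.inj (th ha) (th hb) (hrau' _).symm
    have hw : b⁻¹ * a ∈ omega hS := by
      change (b⁻¹ * a) * (b⁻¹ * a) = 1
      rw [hsq (inv_mem hb) ha, he, ← mul_inv_rev, inv_mul_cancel]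
    have := delta_mul hA hb (omega_le hA hS hw) y
    rw [mul_inv_cancel_left, hdω y hw, mul_one] at this
    rw [this]
  let T : P → F →+ F := fun y =>
    AddMonoidHom.mk' (fun u => C.χ (y * ra u * y⁻¹ * (ra u)⁻¹)) fun u v => by
      have h := hmod y (mul_mem (hra u) (hra v))
      rw [hsq (hra u) (hra v), C.map_mul _ _ (th (hra u)) (th (hra v)), hrau', hrau',
        delta_mul hA (hra u) (hra v) y, C.map_mul _ _ (hd y (hra u)) (hd y (hra v))] at h
      exact h.symm
  have T_def : ∀ y {a}, a ∈ A → C.χ (y * a * y⁻¹ * a⁻¹) = T y (C.χ (a * a)) := fun y a ha => hmod y ha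
  have T_mul : ∀ y z, T (y * z) = T y + T z := by
    intro y z
    refine AddMonoidHom.ext fun u => ?_
    change C.χ _ = C.χ _ + C.χ _
    have hc := Subgroup.mem_center_iff.1 (omega_le_center hS (hd z (hra u))) y
    have e : y * z * ra u * (y * z)⁻¹ * (ra u)⁻¹ =
        (z * ra u * z⁻¹ * (ra u)⁻¹) * (y * ra u * y⁻¹ * (ra u)⁻¹) := by
      calc y * z * ra u * (y * z)⁻¹ * (ra u)⁻¹
          = y * (z * ra u * z⁻¹ * (ra u)⁻¹) * ra u * y⁻¹ * (ra u)⁻¹ := by group
        _ = _ := by rw [hc]; group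
    rw [e, C.map_mul _ _ (hd z (hra u)) (hd y (hra u)), add_comm]
  have T_A : ∀ {y}, y ∈ A → T y = 0 := by
    intro y hy
    refine AddMonoidHom.ext fun u => ?_
    change C.χ (y * ra u * y⁻¹ * (ra u)⁻¹) = 0
    rw [hA.comm y hy _ (hra u), mul_inv_cancel_right, mul_inv_cancel, C.map_one]
  have T_inj : ∀ {y}, T y = 0 → y ∈ A := by
    intro y hy
    rw [← centralizer_eq hA hS C hm hm' le_rfl, Subgroup.mem_centralizer_iff]
    intro a ha
    have h1 := T_def y ha
    rw [hy, AddMonoidHom.zero_apply] at h1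
    have := C.eq_one _ (hd y ha) h1
    calc a * y = (y * a * y⁻¹ * a⁻¹) * (a * y) := by rw [this, one_mul]
      _ = y * a := by group
  have T_one : T 1 = 0 := T_A (one_mem _)
  have T_inv : ∀ y, T y⁻¹ = T y := fun y => by
    have := T_mul y⁻¹ y
    rw [inv_mul_cancel, T_one] at this
    refine AddMonoidHom.ext fun u => ?_
    exact CharTwo.add_eq_zero.1 (DFunLike.congr_fun this u).symm
  have T_two : ∀ y, T y + T y = 0 := fun y => AddMonoidHom.ext fun u => two _
  have hsqA : ∀ y : P, y * y ∈ A := fun y => T_inj (by rw [T_mul, T_two])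
  have hcomA : ∀ y z : P, y * z * y⁻¹ * z⁻¹ ∈ A := fun y z => T_inj (by
    rw [T_mul, T_mul, T_mul, T_inv, T_inv, show T y + T z + T y + T z = (T y + T y) + (T z + T z) by abel,
      T_two, T_two, add_zero])
  -- equivariance
  have T_equiv : ∀ (k : K) y u, T ((k : MulAut P) y) ((C.c k : F) * u) = (C.c k : F) * T y u := by
    intro k y u
    have h := T_def ((k : MulAut P) y) (hA.inv k _ (hra u))
    rw [← delta_map hA, ← map_mul, C.equiv k _ (hd y (hra u)), C.equiv k _ (th (hra u)), hrau'] at h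
    exact h.symm
  obtain ⟨cf, hcf⟩ := FieldAut.exists_coeff (F := F)
  have cf_smul : ∀ (k : K) y (σ : F ≃+* F),
      cf σ (T ((k : MulAut P) y)) = (C.c k : F) / σ (C.c k : F) * cf σ (T y) := by
    intro k y
    refine congrFun (FieldAut.coeff_unique _ _ fun x => ?_)
    have hl : (C.c k : F) ≠ 0 := (C.c k).ne_zero
    rw [← hcf, ← mul_div_cancel₀ x hl, T_equiv, hcf, Finset.mul_sum]
    refine Finset.sum_congr rfl fun σ _ => ?_
    have : σ (C.c k : F) ≠ 0 := by simp [hl]
    rw [map_mul]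
    field_simp
  -- no identity component
  obtain ⟨k₁, hk₁⟩ : ∃ k : K, k ≠ 1 := by
    obtain ⟨x, y, hxy, hx1, hx2, hy1, hy2⟩ := hS.two
    obtain ⟨k, hk, -⟩ := hS.regular x y hx1 hx2 hy1 hy2
    exact ⟨k, fun e => hxy (by rw [← hk, e]; rfl)⟩
  have c_id : ∀ y, cf 1 (T y) = 0 := by
    let V := P ⧸ A
    have hn := hA.normal
    let φ : P ⧸ A → P ⧸ A := Quotient.lift (fun y : P => ((y⁻¹ * (k₁ : MulAut P) y : P) : P ⧸ A))
      fun y y' hyy => by
        have h1 : y⁻¹ * y' ∈ A := QuotientGroup.leftRel_apply.1 hyy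
        rw [QuotientGroup.eq]
        have h2 : T ((k₁ : MulAut P) (y⁻¹ * y')) = 0 := T_A (hA.inv k₁ _ h1)
        rw [map_mul, T_mul, map_inv, T_inv] at h2
        have h3 := T_A h1
        rw [T_mul, T_inv] at h3
        exact T_inj (by
          rw [T_mul, T_inv, T_mul, T_mul, T_inv, T_inv,
            show T y + T ((k₁ : MulAut P) y) + (T y' + T ((k₁ : MulAut P) y')) =
              (T y + T y') + (T ((k₁ : MulAut P) y) + T ((k₁ : MulAut P) y')) by abel, h3, h2, add_zero])
    have hinj : Function.Injective φ := by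
      intro a b hab
      obtain ⟨y, rfl⟩ := QuotientGroup.mk_surjective a
      obtain ⟨y', rfl⟩ := QuotientGroup.mk_surjective b
      change ((y⁻¹ * (k₁ : MulAut P) y : P) : P ⧸ A) = ((y'⁻¹ * (k₁ : MulAut P) y' : P) : P ⧸ A) at hab
      rw [QuotientGroup.eq] at hab ⊢
      refine mem_of_fixed_coset hS hA.inv hk₁ (T_inj ?_)
      have h := T_A hab
      rw [T_mul, T_inv, T_mul, T_mul, T_inv, T_inv] at h
      rw [T_mul, T_inv, T_mul, map_mul, T_mul, map_inv, T_inv, T_inv, ← h]
      abel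
    intro y
    obtain ⟨b, hb⟩ := Finite.injective_iff_surjective.1 hinj (y : P ⧸ A)
    obtain ⟨y', rfl⟩ := QuotientGroup.mk_surjective b
    change ((y'⁻¹ * (k₁ : MulAut P) y' : P) : P ⧸ A) = (y : P ⧸ A) at hb
    rw [QuotientGroup.eq] at hb
    have h := T_A hb
    rw [T_mul, T_inv, T_mul, T_inv] at h
    have hy : T y = T y' + T ((k₁ : MulAut P) y') := by
      refine (AddMonoidHom.ext fun u => ?_)
      exact (CharTwo.add_eq_zero.1 (DFunLike.congr_fun h u)).symm
    rw [hy, map_add, cf_smul, show ((1 : F ≃+* F)) (C.c k₁ : F) = (C.c k₁ : F) from rfl,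
      div_self (C.c k₁).ne_zero, one_mul, two]
  -- every function scales
  let S : AddSubgroup ({σ : F ≃+* F // σ ≠ 1} → F) :=
    { carrier := {g | ∀ y, ∃ y', ∀ σ : {σ : F ≃+* F // σ ≠ 1},
        cf σ.1 (T y') = g σ * cf σ.1 (T y)}
      zero_mem' := fun y => ⟨1, fun σ => by rw [T_one, map_zero, Pi.zero_apply, zero_mul]⟩
      add_mem' := fun {g g'} hg hg' y => by
        obtain ⟨a, ha⟩ := hg y
        obtain ⟨b, hb⟩ := hg' y
        exact ⟨a * b, fun σ => by rw [T_mul, map_add, ha, hb, Pi.add_apply, add_mul]⟩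
      neg_mem' := fun {g} hg y => by
        obtain ⟨a, ha⟩ := hg y
        exact ⟨a, fun σ => by rw [ha, Pi.neg_apply, CharTwo.neg_eq]⟩ }
  have hStop : S = ⊤ := FieldAut.weights_span S fun x y => by
    rcases eq_or_ne x 0 with rfl | hx
    · exact ⟨1, fun σ => by simp only [T_one, map_zero, zero_div, zero_mul]⟩
    · obtain ⟨k, hk⟩ := C.c.surjective (Units.mk0 x hx)
      exact ⟨(k : MulAut P) y, fun σ => by rw [cf_smul, hk, Units.val_mk0]⟩
  have T_ext : ∀ {y z}, (∀ σ, cf σ (T y) = cf σ (T z)) → T y = T z := fun {y z} h =>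
    AddMonoidHom.ext fun u => by rw [hcf, hcf (T z)]; exact Finset.sum_congr rfl fun σ _ => by rw [h]
  have hscale : ∀ (y : P) (g : (F ≃+* F) → F), ∃ y', ∀ σ, cf σ (T y') = g σ * cf σ (T y) := by
    intro y g
    obtain ⟨y', hy'⟩ := (hStop ▸ trivial : (fun σ : {σ : F ≃+* F // σ ≠ 1} => g σ.1) ∈ S) y
    refine ⟨y', fun σ => ?_⟩
    by_cases hσ : σ = 1
    · subst hσ; rw [c_id, c_id, mul_zero]
    · exact hy' ⟨σ, hσ⟩
  -- pure elements
  let pure : (F ≃+* F) → P → Prop := fun σ y => ∀ ρ, ρ ≠ σ → cf ρ (T y) = 0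
  have pure_apply : ∀ {σ y}, pure σ y → ∀ u, T y u = cf σ (T y) * σ u := by
    intro σ y hy u
    rw [hcf]
    exact Finset.sum_eq_single σ (fun ρ _ hρ => by rw [hy ρ hρ, zero_mul]) (by simp)
  have pure_inj : ∀ {σ y}, pure σ y → cf σ (T y) = 0 → y ∈ A := by
    intro σ y hy h
    refine T_inj (AddMonoidHom.ext fun u => ?_)
    rw [pure_apply hy, h, zero_mul, AddMonoidHom.zero_apply]
  -- `γ` and `s`
  let γ : P → P → F := fun y z => C.χ ((y * z * y⁻¹ * z⁻¹) * (y * z * y⁻¹ * z⁻¹))
  let s : P → F := fun y => C.χ ((y * y) * (y * y))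
  have γ_symm : ∀ y z, γ y z = γ z y := by
    intro y z
    simp only [γ]
    congr 1
    have h : (y * z * y⁻¹ * z⁻¹) * (y * z * y⁻¹ * z⁻¹) ∈ omega hS := th (hcomA y z)
    rw [show z * y * z⁻¹ * y⁻¹ = (y * z * y⁻¹ * z⁻¹)⁻¹ by group, ← mul_inv_rev]
    exact eq_inv_of_mul_eq_one_left h
  have γ_mul : ∀ y y' z, γ (y * y') z = γ y z + γ y' z := by
    intro y y' z
    have e : y * y' * z * (y * y')⁻¹ * z⁻¹ =
        (y * (y' * z * y'⁻¹ * z⁻¹) * y⁻¹ * (y' * z * y'⁻¹ * z⁻¹)⁻¹) *
          ((y' * z * y'⁻¹ * z⁻¹) * (y * z * y⁻¹ * z⁻¹)) := by group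
    simp only [γ]
    rw [e]
    set d := y * (y' * z * y'⁻¹ * z⁻¹) * y⁻¹ * (y' * z * y'⁻¹ * z⁻¹)⁻¹
    have hd' : d ∈ omega hS := hd y (hcomA y' z)
    rw [hsq (omega_le hA hS hd') (mul_mem (hcomA y' z) (hcomA y z)), show d * d = 1 from hd', one_mul,
      hsq (hcomA y' z) (hcomA y z), C.map_mul _ _ (th (hcomA y' z)) (th (hcomA y z)), add_comm]
  have γ_A : ∀ {y} z, y ∈ A → γ y z = 0 := by
    intro y z hy
    have : y * z * y⁻¹ * z⁻¹ ∈ omega hS := by
      rw [show y * z * y⁻¹ * z⁻¹ = (z * y * z⁻¹ * y⁻¹)⁻¹ by group]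
      exact inv_mem (hd z hy)
    simp only [γ]
    rw [show _ * _ = (1 : P) from this, C.map_one]
  have γ_self : ∀ y, γ y y = 0 := fun y => by
    simp only [γ]
    rw [mul_inv_cancel_right, mul_inv_cancel, one_mul, C.map_one]
  have s_mul : ∀ y z, s (y * z) = s y + s z + γ y z := by
    intro y z
    have hmid : γ y⁻¹ z = γ y z := by
      have := γ_mul y⁻¹ y z
      rw [inv_mul_cancel, γ_A z (one_mem A)] at this
      exact CharTwo.add_eq_zero.1 this.symm
    have e : y * z * (y * z) = (y * y) * ((y⁻¹ * z * y⁻¹⁻¹ * z⁻¹) * (z * z)) := by group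
    simp only [s]
    rw [e, hsq (hsqA y) (mul_mem (hcomA y⁻¹ z) (hsqA z)), hsq (hcomA y⁻¹ z) (hsqA z),
      C.map_mul _ _ (th (hsqA y)) (mul_mem (th (hcomA y⁻¹ z)) (th (hsqA z))),
      C.map_mul _ _ (th (hcomA y⁻¹ z)) (th (hsqA z)),
      show C.χ ((y⁻¹ * z * y⁻¹⁻¹ * z⁻¹) * (y⁻¹ * z * y⁻¹⁻¹ * z⁻¹)) = γ y z from hmid]
    ring
  have key : ∀ y z, T y (s z) = γ y z + T z (γ y z) := by
    intro y z
    set c := y * z * y⁻¹ * z⁻¹ with hc
    have h := T_def y (hsqA z)
    have e : y * (z * z) * y⁻¹ * (z * z)⁻¹ = c * ((z * c * z⁻¹ * c⁻¹) * c) := by rw [hc]; group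
    have hcA : c ∈ A := hcomA y z
    rw [e, hA.comm _ (delta_mem hA hcA z) _ hcA, ← mul_assoc,
      C.map_mul _ _ (th hcA) (hd z hcA), T_def z hcA] at h
    exact h.symm
  have s_pure : ∀ {σ y}, pure σ y → s y = 0 := by
    intro σ y hy
    have h := key y y
    rw [γ_self, map_zero, add_zero, pure_apply hy] at h
    rcases mul_eq_zero.1 h with h | h
    · have hyA := pure_inj hy h
      simp only [s]
      rw [show _ * _ = (1 : P) from th hyA, C.map_one]
    · simpa using h
  have γ_pure : ∀ {σ τ y z}, σ ≠ 1 → pure σ y → pure τ z → γ y z = 0 := by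
    intro σ τ y z hσ hy hz
    set a := cf σ (T y)
    rcases eq_or_ne a 0 with ha | ha
    · exact γ_A z (pure_inj hy ha)
    by_contra hne
    -- elements with the same `σ`, arbitrary second coefficient
    have hb : cf τ (T z) ≠ 0 := fun h => hne (by rw [γ_symm]; exact γ_A y (pure_inj hz h))
    have hex : ∀ t : F, ∃ z', pure τ z' ∧ cf τ (T z') = t := by
      intro t
      obtain ⟨z', hz'⟩ := hscale z fun _ => t / cf τ (T z)
      exact ⟨z', fun ρ hρ => by rw [hz', hz ρ hρ, mul_zero], by rw [hz', div_mul_cancel₀ _ hb]⟩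
    choose ze hze hzec using hex
    have fixy : ∀ {z'}, pure τ z' → a * σ (γ y z') = γ y z' := by
      intro z' hz'
      have h := key z' y
      rw [s_pure hy, map_zero, γ_symm z' y, pure_apply hy] at h
      exact (CharTwo.add_eq_zero.1 h.symm).symm
    have fixz : ∀ {z'}, pure τ z' → cf τ (T z') * τ (γ y z') = γ y z' := by
      intro z' hz'
      have h := key y z'
      rw [s_pure hz', map_zero, pure_apply hz'] at h
      exact (CharTwo.add_eq_zero.1 h.symm).symm
    have γ_cong : ∀ {z' z''}, T z' = T z'' → γ y z' = γ y z'' := by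
      intro z' z'' h
      have hzA : z'⁻¹ * z'' ∈ A := T_inj (by rw [T_mul, T_inv, h, T_two])
      have e : γ y (z' * (z'⁻¹ * z'')) = γ y z' + γ y (z'⁻¹ * z'') := by
        rw [γ_symm, γ_mul, γ_symm z' y, γ_symm (z'⁻¹ * z'') y]
      rw [mul_inv_cancel_left, γ_symm y (z'⁻¹ * z''), γ_A y hzA, add_zero] at e
      exact e.symm
    let f : F →+ F := AddMonoidHom.mk' (fun t => γ y (ze t)) fun t t' => by
      have e : γ y (ze t * ze t') = γ y (ze t) + γ y (ze t') := by
        rw [γ_symm, γ_mul, γ_symm (ze t) y, γ_symm (ze t') y]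
      rw [← e]
      refine γ_cong (T_ext fun ρ => ?_)
      rw [T_mul, map_add]
      by_cases hρ : ρ = τ
      · subst hρ; rw [hzec, hzec, hzec]
      · rw [hze _ ρ hρ, hze _ ρ hρ, hze _ ρ hρ, add_zero]
    have hf1 : f (cf τ (T z)) = γ y z := γ_cong (T_ext fun ρ => by
      by_cases hρ : ρ = τ
      · subst hρ; rw [hzec]
      · rw [hze _ ρ hρ, hz ρ hρ])
    have hval : ∀ t, f t ≠ 0 → t * τ (f t) = f t := fun t _ => by
      have := fixz (hze t)
      rwa [hzec] at this
    have hinj : Function.Injective f := by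
      rw [injective_iff_map_eq_zero]
      intro t ht
      by_contra ht0
      apply hne
      by_contra hv
      have h1 := hval (cf τ (T z)) (by rwa [hf1])
      have h2 := hval (cf τ (T z) + t) (by rwa [map_add, ht, add_zero, hf1])
      rw [map_add, ht, add_zero, add_mul, h1, add_eq_left] at h2
      rcases mul_eq_zero.1 h2 with h3 | h3
      · exact ht0 h3
      · rw [hf1] at h3
        exact hne (by simpa using h3)
    have hall : ∀ u, a * σ u = u := fun u => by
      obtain ⟨t, rfl⟩ := Finite.injective_iff_surjective.1 hinj u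
      exact fixy (hze t)
    apply hσ
    have ha1 : a = 1 := by simpa using hall 1
    ext u
    simpa [ha1] using hall u
  -- decomposition into pure elements
  have hdec : ∀ (Q : P → Prop), Q 1 → (∀ a ∈ A, Q a) → (∀ a b, Q a → Q b → Q (a * b)) →
      (∀ σ y, σ ≠ 1 → pure σ y → Q y) → ∀ y, Q y := by
    intro Q Q1 QA Qmul Qpure y
    suffices h : ∀ (S : Finset (F ≃+* F)) (y : P), (∀ ρ, ρ ∉ S → cf ρ (T y) = 0) → Q y from
      h Finset.univ y fun ρ h => absurd (Finset.mem_univ ρ) h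
    intro S
    induction S using Finset.induction_on with
    | empty =>
      intro y hy
      exact QA y (T_inj (AddMonoidHom.ext fun u => by
        rw [hcf, AddMonoidHom.zero_apply]
        exact Finset.sum_eq_zero fun σ _ => by rw [hy σ (Finset.notMem_empty σ), zero_mul]))
    | insert σ S hσS ih =>
      intro y hy
      obtain ⟨y', hy'⟩ := hscale y fun ρ => if ρ = σ then 1 else 0
      have hp : pure σ y' := fun ρ hρ => by rw [hy', if_neg hρ, zero_mul]
      have hQy' : Q y' := by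
        by_cases hσ : σ = 1
        · refine QA _ (pure_inj hp ?_)
          subst hσ
          exact c_id _
        · exact Qpure σ y' hσ hp
      rw [show y = y' * (y'⁻¹ * y) by rw [mul_inv_cancel_left]]
      refine Qmul _ _ hQy' (ih _ fun ρ hρ => ?_)
      rw [T_mul, T_inv, map_add, hy']
      by_cases h : ρ = σ
      · rw [if_pos h, one_mul, two]
      · rw [if_neg h, zero_mul, zero_add]
        exact hy ρ (by simp [h, hρ])
  have γ_zero : ∀ y z, γ y z = 0 := by
    refine hdec (fun y => ∀ z, γ y z = 0) (fun z => γ_A z (one_mem A)) (fun a ha z => γ_A z ha)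
      (fun a b ha hb z => by rw [γ_mul, ha, hb, add_zero]) fun σ y hσ hy => ?_
    refine hdec (fun z => γ y z = 0) ?_ (fun a ha => ?_) (fun a b ha hb => ?_) fun τ z _ hz => γ_pure hσ hy hz
    · rw [γ_symm]; exact γ_A y (one_mem A)
    · rw [γ_symm]; exact γ_A y ha
    · rw [γ_symm, γ_mul, γ_symm a, γ_symm b, ha, hb, add_zero]
  have s_zero : ∀ y, s y = 0 := by
    refine hdec (fun y => s y = 0) (by simp [s, C.map_one]) (fun a ha => ?_)
      (fun a b ha hb => by rw [s_mul, ha, hb, γ_zero, add_zero, add_zero]) fun σ y _ hy => s_pure hy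
    simp only [s]
    rw [show _ * _ = (1 : P) from th ha, C.map_one]
  intro y g
  exact ⟨C.eq_one _ (th (hsqA y)) (s_zero y), C.eq_one _ (th (hcomA g y)) (γ_zero g y)⟩

end Middle

end Cfsg.Agent.H48.Suzuki
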