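import Cfsg.Prelude.Def_LieRecognition
import Cfsg.Agent.H48.Suzuki.High
import Cfsg.Agent.H48.Suzuki.Iso

/-!
# Suzuki 2-groups with `|P| = |Z(P)|²` are of type A
-/

set_option autoImplicit false

namespace Cfsg.Agent.H48.Suzuki

section Matrices

variable {F : Type} [Field F] [CharP F 2] (φ : F ≃+* F)

/-- The matrix with rows `(1,0,0)`, `(x,1,0)`, `(y, φ x, 1)`. -/
def typeAMat (x y : F) : Matrix (Fin 3) (Fin 3) F := !![1, 0, 0; x, 1, 0; y, φ x, 1]

omit [CharP F 2] in
/-- Multiplication of these matrices. -/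
theorem typeAMat_mul (x y x' y' : F) :
    typeAMat φ x y * typeAMat φ x' y' = typeAMat φ (x + x') (y + y' + φ x * x') := by
  ext i j
  fin_cases i <;> fin_cases j <;>
    simp [typeAMat, Matrix.mul_apply, Fin.sum_univ_three, map_add] <;> ring

omit [CharP F 2] in
/-- The identity as such a matrix. -/
theorem typeAMat_zero : typeAMat φ 0 0 = 1 := by
  ext i j
  fin_cases i <;> fin_cases j <;> simp [typeAMat]

/-- The corresponding element of the general linear group. -/
def typeAUnit (x y : F) : GL (Fin 3) F where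
  val := typeAMat φ x y
  inv := typeAMat φ x (y + φ x * x)
  val_inv := by
    rw [typeAMat_mul, CharTwo.add_self_eq_zero, ← typeAMat_zero φ]
    congr 1
    rw [← add_assoc y y, CharTwo.add_self_eq_zero, zero_add, CharTwo.add_self_eq_zero]
  inv_val := by
    rw [typeAMat_mul, CharTwo.add_self_eq_zero, ← typeAMat_zero φ]
    congr 1
    rw [show y + φ x * x + y + φ x * x = (y + y) + (φ x * x + φ x * x) by ring,
      CharTwo.add_self_eq_zero, CharTwo.add_self_eq_zero, add_zero]

/-- Products. -/
theorem typeAUnit_mul (x y x' y' : F) :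
    typeAUnit φ x y * typeAUnit φ x' y' = typeAUnit φ (x + x') (y + y' + φ x * x') :=
  Units.ext (typeAMat_mul φ x y x' y')

/-- Coordinates are unique. -/
theorem typeAUnit_inj {x y x' y' : F} (h : typeAUnit φ x y = typeAUnit φ x' y') :
    x = x' ∧ y = y' := by
  have h1 : typeAMat φ x y = typeAMat φ x' y' := congrArg Units.val h
  exact ⟨by simpa [typeAMat] using congrFun (congrFun h1 1) 0,
    by simpa [typeAMat] using congrFun (congrFun h1 2) 0⟩

/-- The elements of the group of type A. -/
theorem mem_typeA_iff (g : GL (Fin 3) F) :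
    g ∈ Cfsg.suzukiTypeA F (φ : F →+* F) ↔ ∃ x y, g = typeAUnit φ x y := by
  have e1 : typeAUnit φ 0 0 = 1 := Units.ext (typeAMat_zero φ)
  constructor
  · intro h
    induction h using Subgroup.closure_induction with
    | mem g hg =>
      obtain ⟨x, y, hxy⟩ := hg
      exact ⟨x, y, Units.ext hxy⟩
    | one => exact ⟨0, 0, e1.symm⟩
    | mul g g' _ _ hg hg' =>
      obtain ⟨x, y, rfl⟩ := hg
      obtain ⟨x', y', rfl⟩ := hg'
      exact ⟨_, _, typeAUnit_mul φ x y x' y'⟩
    | inv g _ hg =>
      obtain ⟨x, y, rfl⟩ := hg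
      exact ⟨x, y + φ x * x, Units.ext rfl⟩
  · rintro ⟨x, y, rfl⟩
    exact Subgroup.subset_closure ⟨x, y, rfl⟩

end Matrices

/-- If `φ` is a field automorphism for which `a * φ a` is injective on nonzero elements, then its
order is odd. -/
theorem odd_order_aut {F : Type*} [Field F] [Finite F] [CharP F 2] (φ : F ≃+* F)
    (h : ∀ a : F, a ≠ 0 → a * φ a = 1 → a = 1) : Odd (orderOf φ) := by
  classical
  by_contra hev
  obtain ⟨l, hl⟩ := Nat.not_odd_iff_even.1 hev
  letI := Fintype.ofFinite F
  have := Cfsg.Agent.H48.FieldAut.finite_aut (F := F)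
  have hpos := orderOf_pos φ
  have hfix : ∀ b : F, φ (φ b) = b → φ b = b := by
    intro b hb
    rcases eq_or_ne b 0 with rfl | hb0
    · exact map_zero φ
    have hb' : φ b ≠ 0 := fun e => hb0 (φ.injective (e.trans (map_zero φ).symm))
    have := h (b / φ b) (div_ne_zero hb0 hb') (by rw [map_div₀, hb]; field_simp)
    rw [div_eq_one_iff_eq hb'] at this
    exact this.symm
  have hsum : ∀ x : F, ∑ i ∈ Finset.range (orderOf φ), ((φ ^ i : F ≃+* F) : F →+* F) x = 0 := by
    intro x
    set b := ∑ i ∈ Finset.range l, (φ ^ (2 * i) : F ≃+* F) x with hb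
    have h2 : φ (φ b) = b := by
      rw [hb, map_sum, map_sum]
      have hlast : (φ ^ (2 * l) : F ≃+* F) x = x := by
        rw [two_mul, ← hl, pow_orderOf_eq_one]; rfl
      have e : ∀ i, φ (φ ((φ ^ (2 * i) : F ≃+* F) x)) = (φ ^ (2 * (i + 1)) : F ≃+* F) x := by
        intro i
        rw [show 2 * (i + 1) = 2 * i + 1 + 1 by ring, pow_succ', pow_succ']
        rfl
      simp only [e]
      have h1 := Finset.sum_range_succ' (fun i => (φ ^ (2 * i) : F ≃+* F) x) l
      have h3 := Finset.sum_range_succ (fun i => (φ ^ (2 * i) : F ≃+* F) x) l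
      rw [h1, hlast, mul_zero, pow_zero] at h3
      exact add_right_cancel h3
    have h4 := hfix b h2
    have key : ∀ n : ℕ, ∑ i ∈ Finset.range (n + n), ((φ ^ i : F ≃+* F) : F →+* F) x =
        (∑ i ∈ Finset.range n, (φ ^ (2 * i) : F ≃+* F) x) +
          φ (∑ i ∈ Finset.range n, (φ ^ (2 * i) : F ≃+* F) x) := by
      intro n
      induction n with
      | zero => simp
      | succ n ih =>
        rw [show n + 1 + (n + 1) = n + n + 1 + 1 by ring, Finset.sum_range_succ,
          Finset.sum_range_succ, ih, Finset.sum_range_succ, map_add]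
        have e1 : ((φ ^ (n + n + 1) : F ≃+* F) : F →+* F) x = φ ((φ ^ (2 * n) : F ≃+* F) x) := by
          rw [pow_succ', ← two_mul]; rfl
        rw [e1, ← two_mul n]
        change _ + (φ ^ (2 * n) : F ≃+* F) x + _ = _
        abel
    rw [hl, key, ← hb, h4, CharTwo.add_self_eq_zero]
  have hli := Cfsg.Agent.H48.FieldAut.linearIndependent_aut (F := F)
  have hli' : LinearIndependent F (fun i : Fin (orderOf φ) =>
      (((φ ^ (i : ℕ) : F ≃+* F) : F →+* F) : F → F)) :=
    hli.comp (fun i : Fin (orderOf φ) => φ ^ (i : ℕ))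
      (fun i j e => Fin.ext (pow_injOn_Iio_orderOf i.2 j.2 e))
  have := Fintype.linearIndependent_iff.1 hli' (fun _ => 1) (by
    funext x
    rw [Finset.sum_apply]
    simp only [one_smul, Pi.zero_apply]
    exact (Fin.sum_univ_eq_sum_range (fun i => ((φ ^ i : F ≃+* F) : F →+* F) x) _).trans (hsum x))
  exact one_ne_zero (this ⟨0, hpos⟩)

variable {P : Type*} [Group P] [Finite P] {K : Subgroup (MulAut P)} (hS : Setup K)
include hS

/-- With `|P| = |Z|²` squares and commutators are central. -/
theorem sq_mem_center (hne : ∃ x y : P, x * y ≠ y * x)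
    (hcard : Nat.card P = Nat.card (Subgroup.center P) ^ 2) :
    ∀ y : P, y * y ∈ Subgroup.center P ∧ ∀ g, g * y * g⁻¹ * y⁻¹ ∈ Subgroup.center P := by
  classical
  set Z := Subgroup.center P with hZ
  have hZo : Z = omega hS :=
    le_antisymm (fun z hz => sq_center hS hne hz) (omega_le_center hS)
  set L := layer Z inferInstance with hL
  have hZL : Z ≤ L := fun y hy =>
    ⟨mul_mem hy hy, fun g => mul_mem ((inferInstance : Z.Normal).conj_mem y hy g) (inv_mem hy)⟩
  obtain ⟨y₀, hy₀, hy₀Z⟩ : ∃ y ∈ L, y ∉ Z := by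
    have : Fact (Nat.Prime 2) := ⟨Nat.prime_two⟩
    have hbot : (⊤ : Subgroup (P ⧸ Z)) ≠ ⊥ := by
      intro h
      obtain ⟨x, y, hxy⟩ := hne
      apply hxy
      have : (x : P ⧸ Z) ∈ (⊥ : Subgroup (P ⧸ Z)) := h ▸ Subgroup.mem_top _
      exact ((Subgroup.mem_center_iff.1 ((QuotientGroup.eq_one_iff x).1 (Subgroup.mem_bot.1 this))) y).symm
    obtain ⟨z, -, hzc, hz⟩ := Cfsg.Agent.H24.exists_central_orderOf (hS.isP.to_quotient Z) hbot
    obtain ⟨y, rfl⟩ := QuotientGroup.mk_surjective z
    refine ⟨y, ⟨?_, fun g => ?_⟩, ?_⟩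
    · rw [← QuotientGroup.eq_one_iff, QuotientGroup.mk_mul, ← sq, ← hz, pow_orderOf_eq_one]
    · rw [← QuotientGroup.eq_one_iff]
      change (g : P ⧸ Z) * (y : P ⧸ Z) * (g : P ⧸ Z)⁻¹ * (y : P ⧸ Z)⁻¹ = 1
      rw [Subgroup.mem_center_iff.1 hzc (g : P ⧸ Z)]; group
    · intro h
      rw [(QuotientGroup.eq_one_iff y).2 h, orderOf_one] at hz
      omega
  have hLinv : ∀ k : K, ∀ y ∈ L, (k : MulAut P) y ∈ L := by
    intro k y hy
    refine ⟨by rw [← map_mul]; exact invariant_center K k _ hy.1, fun g => ?_⟩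
    obtain ⟨g, rfl⟩ := (k : MulAut P).surjective g
    rw [← map_inv, ← map_inv, ← map_mul, ← map_mul, ← map_mul]
    exact invariant_center K k _ (hy.2 g)
  -- the classes of `1` and of the images of `y₀` are distinct
  let Φ : Option K × Z → L := fun p =>
    ⟨(p.1.elim 1 fun k : K => (k : MulAut P) y₀) * p.2, by
      refine mul_mem ?_ (hZL p.2.2)
      rcases p.1 with _ | k
      · exact one_mem _
      · exact hLinv k y₀ hy₀⟩
  have hinj : Function.Injective Φ := by
    rintro ⟨o, z⟩ ⟨o', z'⟩ h
    have h1 := congrArg Subtype.val h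
    simp only [Φ] at h1
    have hoo : o = o' := by
      rcases o with _ | k <;> rcases o' with _ | l <;> simp only [Option.elim] at h1
      · rfl
      · exfalso
        apply hy₀Z
        have : (l : MulAut P) y₀ ∈ Z := by
          rw [eq_mul_inv_of_mul_eq h1.symm, one_mul]
          exact mul_mem z.2 (inv_mem z'.2)
        simpa [← MulAut.mul_apply] using invariant_center K l⁻¹ _ this
      · exfalso
        apply hy₀Z
        have : (k : MulAut P) y₀ ∈ Z := by
          rw [eq_mul_inv_of_mul_eq h1, one_mul]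
          exact mul_mem z'.2 (inv_mem z.2)
        simpa [← MulAut.mul_apply] using invariant_center K k⁻¹ _ this
      · by_contra hkl
        apply hy₀Z
        have hk1 : l⁻¹ * k ≠ 1 := fun e => hkl (congrArg some (inv_mul_eq_one.1 e).symm)
        refine mem_of_fixed_coset hS (invariant_center K) hk1 ?_
        have h2 : ((k : MulAut P) y₀) = (l : MulAut P) y₀ * ((z' : P) * (z : P)⁻¹) := by
          rw [← mul_assoc, ← h1]; group
        rw [Subgroup.coe_mul, MulAut.mul_apply, h2, map_mul, ← MulAut.mul_apply, ← Subgroup.coe_mul,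
          inv_mul_cancel, OneMemClass.coe_one, MulAut.one_apply, inv_mul_cancel_left]
        exact invariant_center K l⁻¹ _ (mul_mem z'.2 (inv_mem z.2))
    subst hoo
    exact Prod.ext rfl (Subtype.ext (mul_left_cancel h1))
  have hq : Nat.card (Option K) = Nat.card Z := by
    obtain ⟨x, -, -, hx1, hx2, -, -⟩ := hS.two
    refine Nat.card_eq_of_bijective
      (fun o : Option K => (⟨o.elim 1 fun k => (k : MulAut P) x, by
        rcases o with _ | k
        · exact one_mem _
        · exact invariant_center K k x (inv_central hS hx2)⟩ : Z)) ⟨?_, ?_⟩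
    · have hk : ∀ k : K, (k : MulAut P) x ≠ 1 := fun k e =>
        hx1 ((k : MulAut P).injective (e.trans (map_one (k : MulAut P)).symm))
      rintro (_ | k) (_ | l) e <;> have e1 := congrArg Subtype.val e <;>
        simp only [Option.elim] at e1
      · rfl
      · exact absurd e1.symm (hk l)
      · exact absurd e1 (hk k)
      · exact congrArg some
          ((hS.regular x _ hx1 hx2 (hk l) (map_omega hS l hx2)).unique e1 rfl)
    · rintro ⟨z, hz⟩
      rcases eq_or_ne z 1 with rfl | hz1
      · exact ⟨none, rfl⟩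
      · obtain ⟨k, hk, -⟩ := hS.regular x z hx1 hx2 hz1 (sq_center hS hne hz)
        exact ⟨some k, Subtype.ext hk⟩
  have hle := Nat.card_le_card_of_injective Φ hinj
  rw [Nat.card_prod, hq, ← sq, ← hcard] at hle
  have hLtop : L = ⊤ := Subgroup.eq_top_of_le_card L hle
  intro y
  exact (hLtop ▸ Subgroup.mem_top y : y ∈ L)

/-- Higman: the case `|P| = |Z(P)|²` is type A. -/
theorem typeA (hne : ∃ x y : P, x * y ≠ y * x)
    (hcard : Nat.card P = Nat.card (Subgroup.center P) ^ 2) :
    ∃ (F : Type) (_ : Field F) (_ : Fintype F) (φ : F ≃+* F),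
      Fintype.card F = Nat.card (Subgroup.center P) ∧ φ ≠ RingEquiv.refl F ∧ Odd (orderOf φ) ∧
        Nonempty (P ≃* Cfsg.suzukiTypeA F (φ : F →+* F)) := by
  classical
  obtain ⟨F, iF, iFin, iC, ⟨C⟩⟩ := exists_coord hS
  have hZo : Subgroup.center P = omega hS :=
    le_antisymm (fun z hz => sq_center hS hne hz) (omega_le_center hS)
  have hlayer := sq_mem_center hS hne hcard
  have hsq : ∀ y : P, y * y ∈ omega hS := fun y => hZo ▸ (hlayer y).1
  have hcomm : ∀ g y : P, g * y * g⁻¹ * y⁻¹ ∈ omega hS := fun g y => hZo ▸ (hlayer y).2 g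
  have hFcard : Nat.card F = Nat.card (Subgroup.center P) := by
    symm
    refine Nat.card_eq_of_bijective (fun z : Subgroup.center P => C.χ z) ⟨?_, ?_⟩
    · intro z w e
      exact Subtype.ext (C.inj (hZo ▸ z.2) (hZo ▸ w.2) e)
    · intro u
      obtain ⟨w, hw, hwu⟩ := C.surj u
      exact ⟨⟨w, hZo ▸ hw⟩, hwu⟩
  -- the quotient
  let V := P ⧸ Subgroup.center P
  have hVsq : ∀ v : V, v * v = 1 := by
    intro v
    obtain ⟨y, rfl⟩ := QuotientGroup.mk_surjective v
    rw [← QuotientGroup.mk_mul, QuotientGroup.eq_one_iff]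
    exact (hlayer y).1
  have hVcomm : ∀ v w : V, v * w = w * v := by
    intro v w
    have hi : ∀ u : V, u⁻¹ = u := fun u => inv_eq_of_mul_eq_one_right (hVsq u)
    rw [← hi (v * w), mul_inv_rev, hi, hi]
  letI : CommGroup V := { (inferInstance : Group V) with mul_comm := hVcomm }
  letI : CommGroup K := { (inferInstance : Group K) with mul_comm := hS.comm }
  let act : K → V →* V := fun k =>
    QuotientGroup.map _ _ ((k : MulAut P).toMonoidHom) fun z hz => invariant_center K k z hz
  let ρ : K →* AddMonoid.End (Additive V) :=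
    { toFun := fun k => MonoidHom.toAdditive (act k)
      map_one' := by
        refine DFunLike.ext _ _ fun v => ?_
        obtain ⟨y, hy⟩ := QuotientGroup.mk_surjective v.toMul
        rw [show v = Additive.ofMul (y : V) by rw [hy]; rfl]
        rfl
      map_mul' := fun k l => by
        refine DFunLike.ext _ _ fun v => ?_
        obtain ⟨y, hy⟩ := QuotientGroup.mk_surjective v.toMul
        rw [show v = Additive.ofMul (y : V) by rw [hy]; rfl]
        rfl }
  have hVcard : Nat.card (Additive V) = Nat.card F := by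
    have h1 := Subgroup.card_eq_card_quotient_mul_card_subgroup (Subgroup.center P)
    rw [hcard, sq] at h1
    rw [hFcard]
    exact (Nat.eq_of_mul_eq_mul_right Nat.card_pos h1).symm
  have hne' : Nontrivial (Additive V) := by
    apply Finite.one_lt_card_iff_nontrivial.1
    rw [hVcard]
    exact Finite.one_lt_card
  have hinjV : ∀ v : Additive V, v ≠ 0 → ∀ k l : K, ρ k v = ρ l v → k = l := by
    intro v hv k l hkl
    by_contra hne2
    apply hv
    obtain ⟨y, hy⟩ := QuotientGroup.mk_surjective v.toMul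
    have hv' : v = Additive.ofMul (y : V) := by rw [hy]; rfl
    subst hv'
    have e : ((k : MulAut P) y : V) = ((l : MulAut P) y : V) := hkl
    rw [QuotientGroup.eq] at e
    have hk1 : k⁻¹ * l ≠ 1 := fun h => hne2 (inv_mul_eq_one.1 h)
    have hmem : y ∈ Subgroup.center P := by
      refine mem_of_fixed_coset hS (invariant_center K) hk1 ?_
      have := invariant_center K k⁻¹ _ e
      rw [map_mul, map_inv, ← MulAut.mul_apply, ← MulAut.mul_apply, ← Subgroup.coe_mul,
        ← Subgroup.coe_mul, inv_mul_cancel, OneMemClass.coe_one, MulAut.one_apply] at this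
      exact this
    change Additive.ofMul (y : V) = 0
    rw [(QuotientGroup.eq_one_iff y).2 hmem]; rfl
  have hρ0 : ∀ v : Additive V, v ≠ 0 → ∀ k : K, ρ k v ≠ 0 := by
    intro v hv k e
    apply hv
    have : (ρ k⁻¹ * ρ k) v = 0 := by
      change ρ k⁻¹ (ρ k v) = 0
      rw [e, map_zero]
    rw [← map_mul, inv_mul_cancel, map_one] at this
    exact this
  have hregV : ∀ v w : Additive V, v ≠ 0 → w ≠ 0 → ∃! k : K, ρ k v = w := by
    intro v w hv hw
    let f : Option K → Additive V := fun o => o.elim 0 fun k => ρ k v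
    have hf : Function.Injective f := by
      rintro (_ | k) (_ | l) e <;> simp only [f, Option.elim] at e
      · rfl
      · exact absurd e.symm (hρ0 v hv l)
      · exact absurd e (hρ0 v hv k)
      · exact congrArg some (hinjV v hv k l e)
    have hc : Nat.card (Option K) = Nat.card (Additive V) := by
      rw [hVcard]
      refine Nat.card_eq_of_bijective (fun o : Option K => o.elim 0 fun k => (C.c k : F)) ⟨?_, ?_⟩
      · rintro (_ | k) (_ | l) e <;> simp only [Option.elim] at e
        · rfl
        · exact absurd e.symm (C.c l).ne_zero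
        · exact absurd e (C.c k).ne_zero
        · exact congrArg some (C.c.injective (Units.ext e))
      · intro u
        rcases eq_or_ne u 0 with rfl | hu
        · exact ⟨none, rfl⟩
        · obtain ⟨k, hk⟩ := C.c.surjective (Units.mk0 u hu)
          exact ⟨some k, by simp [hk]⟩
    obtain ⟨o, ho⟩ := ((Nat.bijective_iff_injective_and_card f).2 ⟨hf, hc⟩).2 w
    rcases o with _ | k
    · exact absurd ho.symm hw
    · exact ⟨k, ho, fun l hl => hinjV v hv l k (hl.trans ho.symm)⟩
  obtain ⟨F', iF', iFin', iC', χV, cV, hcV⟩ := exists_field ρ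
    (fun v => Additive.toMul.injective (hVsq v.toMul)) hregV
  -- transport to the first field
  let e : F' ≃+* F := FiniteField.ringEquivOfCardEq (by
    rw [← Nat.card_eq_fintype_card, ← Nat.card_eq_fintype_card, ← hVcard]
    exact (Nat.card_congr χV.toEquiv).symm)
  let p : P → F := fun y => e (χV (Additive.ofMul (y : V)))
  have p_mul : ∀ x y, p (x * y) = p x + p y := fun x y => by
    change e (χV (Additive.ofMul (((x * y : P)) : V))) = _
    rw [QuotientGroup.mk_mul, ofMul_mul, map_add, map_add]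
  have p_surj : ∀ u : F, ∃ y, p y = u := by
    intro u
    obtain ⟨y, hy⟩ := QuotientGroup.mk_surjective (χV.symm (e.symm u)).toMul
    refine ⟨y, ?_⟩
    simp only [p, hy, ofMul_toMul, AddEquiv.apply_symm_apply, RingEquiv.apply_symm_apply]
  have p_zero : ∀ y, p y = 0 ↔ y ∈ Subgroup.center P := by
    intro y
    simp only [p, EmbeddingLike.map_eq_zero_iff, ofMul_eq_zero]
    exact QuotientGroup.eq_one_iff y
  have p_equiv : ∀ (k : K) y, p ((k : MulAut P) y) = e (cV k : F') * p y := by
    intro k y
    change e (χV (ρ k (Additive.ofMul (y : V)))) = _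
    rw [hcV, map_mul]
  choose sec hsec using p_surj
  set q : F → F := fun a => C.χ (sec a * sec a) with hqdef
  have hq_spec : ∀ y, C.χ (y * y) = q (p y) := by
    intro y
    have hz : (sec (p y))⁻¹ * y ∈ Subgroup.center P := by
      rw [← p_zero]
      have := p_mul (sec (p y)) ((sec (p y))⁻¹ * y)
      rw [mul_inv_cancel_left, hsec] at this
      exact left_eq_add.1 this
    set z := (sec (p y))⁻¹ * y
    have hy : y = sec (p y) * z := by simp [z]
    have e1 : y * y = sec (p y) * sec (p y) * (z * z) := by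
      conv_lhs => rw [hy]
      have := Subgroup.mem_center_iff.1 hz (sec (p y))
      calc sec (p y) * z * (sec (p y) * z) = sec (p y) * (z * sec (p y)) * z := by group
        _ = _ := by rw [← this]; group
    rw [e1, sq_center hS hne hz, mul_one]
  have q_smul : ∀ (k : K) a, q (e (cV k : F') * a) = (C.c k : F) * q a := by
    intro k a
    conv_lhs => rw [← hsec a, ← p_equiv, ← hq_spec, ← map_mul, C.equiv k _ (hsq _)]
  have q_ne : ∀ a, a ≠ 0 → q a ≠ 0 := by
    intro a ha h
    apply ha
    rw [← hsec a, p_zero, hZo]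
    exact C.eq_one _ (hsq _) h
  set γ := q 1
  have hγ : γ ≠ 0 := q_ne 1 one_ne_zero
  let π : F →* F :=
    { toFun := fun a => q a / γ
      map_one' := div_self hγ
      map_mul' := fun a b => by
        rcases eq_or_ne a 0 with rfl | ha
        · have h0 : q 0 = 0 := by
            have := hq_spec 1
            rw [one_mul, C.map_one, (p_zero 1).2 (one_mem _)] at this
            exact this.symm
          simp [h0]
        obtain ⟨k, hk⟩ := cV.surjective (Units.mk0 (e.symm a)
          (fun h => ha (by rw [← e.apply_symm_apply a, h, map_zero])))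
        have hka : e (cV k : F') = a := by rw [hk, Units.val_mk0, e.apply_symm_apply]
        have h1 := q_smul k b
        have h2 := q_smul k 1
        rw [hka, mul_one] at h2
        rw [hka] at h1
        rw [h1, h2]
        field_simp
        rfl }
  have π_inj : ∀ a, a ≠ 0 → π a = 1 → a = 1 := by
    intro a ha h
    obtain ⟨k, hk⟩ := cV.surjective (Units.mk0 (e.symm a)
      (fun h => ha (by rw [← e.apply_symm_apply a, h, map_zero])))
    have hka : e (cV k : F') = a := by rw [hk, Units.val_mk0, e.apply_symm_apply]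
    have h2 := q_smul k 1
    rw [hka, mul_one] at h2
    change q a / γ = 1 at h
    rw [h2, mul_div_cancel_right₀ _ hγ] at h
    have : C.c k = 1 := Units.ext h
    rw [C.c.map_eq_one_iff.1 this, map_one, Units.val_one, map_one] at hka
    exact hka.symm
  -- the polar form
  set β : P → P → F := fun x y => C.χ (y * x * y⁻¹ * x⁻¹) with hβ
  have hsq_mul : ∀ x y : P, C.χ (x * y * (x * y)) = C.χ (x * x) + C.χ (y * y) + β x y := by
    intro x y
    have hc := Subgroup.mem_center_iff.1 (omega_le_center hS (hcomm y x))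
    have h1 : x * y * (x * y) = x * x * (y * y) * (y * x * y⁻¹ * x⁻¹) := by
      calc x * y * (x * y) = x * ((y * x * y⁻¹ * x⁻¹) * x) * (y * y) := by group
        _ = x * (x * (y * x * y⁻¹ * x⁻¹)) * (y * y) := by rw [← hc]
        _ = x * x * ((y * x * y⁻¹ * x⁻¹) * (y * y)) := by group
        _ = x * x * ((y * y) * (y * x * y⁻¹ * x⁻¹)) := by rw [hc]
        _ = _ := by group
    rw [h1, C.map_mul _ _ (mul_mem (hsq x) (hsq y)) (hcomm y x), C.map_mul _ _ (hsq x) (hsq y)]
  have hβl : ∀ x x' y, β (x * x') y = β x y + β x' y := by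
    intro x x' y
    have hc := Subgroup.mem_center_iff.1 (omega_le_center hS (hcomm y x'))
    have h1 : y * (x * x') * y⁻¹ * (x * x')⁻¹ =
        (y * x * y⁻¹ * x⁻¹) * (y * x' * y⁻¹ * x'⁻¹) := by
      calc y * (x * x') * y⁻¹ * (x * x')⁻¹
          = y * x * y⁻¹ * ((y * x' * y⁻¹ * x'⁻¹) * x⁻¹) := by group
        _ = _ := by rw [← hc x⁻¹]; group
    simp only [hβ]
    rw [h1, C.map_mul _ _ (hcomm y x) (hcomm y x')]
  -- `π` is a product of two automorphisms
  have hπquad : ∀ u v w : F,
      π (u + v + w) + π (u + v) + π (u + w) + π (v + w) + π u + π v + π w = 0 := by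
    intro u v w
    have hπ : ∀ y, π (p y) = C.χ (y * y) / γ := fun y => by rw [hq_spec]; rfl
    rw [← hsec u, ← hsec v, ← hsec w, ← p_mul, ← p_mul, ← p_mul, ← p_mul]
    simp only [hπ, hsq_mul, hβl]
    linear_combination ((2 * (C.χ (sec u * sec u) + C.χ (sec v * sec v) + C.χ (sec w * sec w)) +
      β (sec u) (sec v) + β (sec u) (sec w) + β (sec v) (sec w)) / γ) * (CharTwo.two_eq_zero (R := F))
  have := Cfsg.Agent.H48.FieldAut.finite_aut (F := F)
  letI := Fintype.ofFinite (F ≃+* F)
  obtain ⟨B, hB⟩ := Cfsg.Agent.H48.FieldAut.exists_biadd_of_quadratic (fun a => π a) hπquad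
  obtain ⟨cc, hcc⟩ := Cfsg.Agent.H48.FieldAut.exists_coeff_two B
  obtain ⟨σ, τ, hστ⟩ : ∃ σ τ : F ≃+* F, ∀ a, π a = σ a * τ a := by
    by_contra hno
    push Not at hno
    let S : Set (F →* F) := Set.range fun st : (F ≃+* F) × (F ≃+* F) =>
      ((st.1 : F →+* F) : F →* F) * ((st.2 : F →+* F) : F →* F)
    have hπS : π ∉ S := by
      rintro ⟨st, hst⟩
      obtain ⟨a, ha⟩ := hno st.1 st.2
      exact ha (DFunLike.congr_fun hst a).symm
    apply (linearIndependent_monoidHom F F).notMem_span_image hπS
    have hval : (⇑π : F → F) =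
        ∑ st : (F ≃+* F) × (F ≃+* F), cc st • (fun a => st.1 a * st.2 a) := by
      funext a
      rw [Finset.sum_apply]
      exact (hB a).trans (hcc a a)
    rw [hval]
    refine Submodule.sum_mem _ fun st _ => Submodule.smul_mem _ _ (Submodule.subset_span ?_)
    exact ⟨_, ⟨st, rfl⟩, rfl⟩
  set φ : F ≃+* F := σ.symm.trans τ with hφ
  have hπφ : ∀ a, π a = σ a * φ (σ a) := fun a => by
    rw [hστ, hφ, RingEquiv.trans_apply, RingEquiv.symm_apply_apply]
  have hodd : Odd (orderOf φ) := by
    apply odd_order_aut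
    intro a ha h
    have h1 := π_inj (σ.symm a) (fun h0 => ha (by rw [← σ.apply_symm_apply a, h0, map_zero]))
      (by rw [hπφ, σ.apply_symm_apply, h])
    rw [← σ.apply_symm_apply a, h1, map_one]
  have hrefl : φ ≠ RingEquiv.refl F := by
    intro h
    obtain ⟨x, y, hxy⟩ := hne
    apply hxy
    have h0 : β x y = 0 := by
      have hπ : ∀ y, π (p y) = C.χ (y * y) / γ := fun y => by rw [hq_spec]; rfl
      have h1 := hπ (x * y)
      rw [hsq_mul, p_mul, hπφ, h, RingEquiv.refl_apply, map_add,
        show (σ (p x) + σ (p y)) * (σ (p x) + σ (p y)) =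
          σ (p x) * σ (p x) + σ (p y) * σ (p y) + (σ (p x) * σ (p y) + σ (p x) * σ (p y)) by ring,
        CharTwo.add_self_eq_zero, add_zero] at h1
      have hx := hπ x
      have hy := hπ y
      rw [hπφ, h, RingEquiv.refl_apply] at hx hy
      rw [hx, hy] at h1
      field_simp at h1
      linear_combination -h1
    have := C.eq_one _ (hcomm y x) h0
    calc x * y = (y * x * y⁻¹ * x⁻¹) * (x * y) := by rw [this, one_mul]
      _ = y * x := by group
  -- the isomorphism
  let G' := ↥(Cfsg.suzukiTypeA F (φ : F →+* F))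
  have hG' : Finite G' := inferInstance
  have hrep : ∀ g : G', ∃ x y : F, (g : GL (Fin 3) F) = typeAUnit φ x y :=
    fun g => (mem_typeA_iff φ _).1 g.2
  choose X Y hXY using hrep
  let mk : F → F → G' := fun x y => ⟨typeAUnit φ x y, (mem_typeA_iff φ _).2 ⟨x, y, rfl⟩⟩
  have mk_mul : ∀ x y x' y', mk x y * mk x' y' = mk (x + x') (y + y' + φ x * x') :=
    fun x y x' y' => Subtype.ext (typeAUnit_mul φ x y x' y')
  have hmk : ∀ g, g = mk (X g) (Y g) := fun g => Subtype.ext (hXY g)
  have Xmk : ∀ x y, X (mk x y) = x := fun x y => (typeAUnit_inj φ (hXY (mk x y))).1.symm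
  have Ymk : ∀ x y, Y (mk x y) = y := fun x y => (typeAUnit_inj φ (hXY (mk x y))).2.symm
  have mk0 : mk 0 0 = 1 := Subtype.ext (Units.ext (typeAMat_zero φ))
  have hXmul : ∀ g g', X (g * g') = X g + X g' := fun g g' => by
    conv_lhs => rw [hmk g, hmk g', mk_mul, Xmk]
  have hsquare : ∀ g : G', g * g = mk 0 (φ (X g) * X g) := fun g => by
    conv_lhs => rw [hmk g, mk_mul, CharTwo.add_self_eq_zero, CharTwo.add_self_eq_zero, zero_add]
  refine ⟨F, iF, iFin, φ, by rw [← Nat.card_eq_fintype_card, hFcard], hrefl, hodd, ?_⟩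
  refine iso_of_squares (fun u => CharTwo.add_self_eq_zero u) (fun y => σ (p y)) X
    (fun x y => by simp only [p_mul, map_add]) hXmul
    (fun u => ⟨sec (σ.symm u), by simp only [hsec, RingEquiv.apply_symm_apply]⟩)
    (fun u => ⟨mk u 0, Xmk u 0⟩) (fun z => mk 0 (C.χ z / γ)) ?_ ?_ ?_ ?_ ?_ ?_ ?_
  · intro z hz y
    rw [map_eq_zero σ, p_zero] at hz
    exact (Subgroup.mem_center_iff.1 hz y).symm
  · intro n hn g
    rw [hmk n, hn, hmk g, mk_mul, mk_mul]
    simp [add_comm]
  · intro z z' hz hz'
    rw [map_eq_zero σ, p_zero, hZo] at hz hz'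
    rw [mk_mul, C.map_mul _ _ hz hz']
    simp [add_div]
  · intro z _
    exact Xmk _ _
  · intro z hz h
    rw [map_eq_zero σ, p_zero, hZo] at hz
    have h3 := congrArg Y h
    rw [Ymk, ← mk0, Ymk] at h3
    exact C.eq_one _ hz ((div_eq_zero_iff.1 h3).resolve_right hγ)
  · intro n hn
    obtain ⟨z, hz, hzv⟩ := C.surj (Y n * γ)
    refine ⟨z, ?_, ?_⟩
    · rw [map_eq_zero σ, p_zero, hZo]; exact hz
    · rw [hzv, mul_div_cancel_right₀ _ hγ]
      conv_rhs => rw [hmk n, hn]
  · intro y g h
    rw [hsquare, hq_spec, ← h]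
    congr 1
    rw [mul_comm, ← hπφ]
    rfl

end Cfsg.Agent.H48.Suzuki
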